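import Groth.Agent.FpqcMod.Alg
import Mathlib.RingTheory.TensorProduct.Basic
import Mathlib.RingTheory.IsTensorProduct

/-!
# Effective descent of modules along a finite family of flat algebras
-/

universe u

set_option autoImplicit false

open TensorProduct

namespace Groth.Agent.FpqcMod

variable {R : Type u} [CommRing R] {n : Type} {B : n → Type u} [∀ j, CommRing (B j)]
  [∀ j, Algebra R (B j)]
  {N : n → Type u} [∀ j, AddCommGroup (N j)] [∀ j, Module R (N j)] [∀ j, Module (B j) (N j)]
  [∀ j, IsScalarTower R (B j) (N j)] (ρ : ∀ k j, N k →ₗ[R] B k ⊗[R] N j)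

/-- The difference of the two maps to the double products. -/
noncomputable def descDiff : (∀ j, N j) →ₗ[R] (∀ p : n × n, B p.1 ⊗[R] N p.2) :=
  LinearMap.pi fun p => ρ p.1 p.2 ∘ₗ LinearMap.proj p.1 - TensorProduct.mk R (B p.1) (N p.2) 1 ∘ₗ LinearMap.proj p.2

/-- The descended module. -/
noncomputable def descended : Submodule R (∀ j, N j) := LinearMap.ker (descDiff ρ)

lemma mem_descended {z : ∀ j, N j} : z ∈ descended ρ ↔ ∀ k j, ρ k j (z k) = (1 : B k) ⊗ₜ[R] z j := by
  simp [descended, descDiff, funext_iff, sub_eq_zero, Prod.forall]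

/-- Evaluation on a member of the family. -/
noncomputable def descEv (k : n) : B k ⊗[R] descended ρ →ₗ[B k] N k :=
  (LinearMap.proj k ∘ₗ (descended ρ).subtype).liftBaseChange (B k)

lemma descEv_tmul (k : n) (b : B k) (z : descended ρ) : descEv ρ k (b ⊗ₜ z) = b • z.1 k :=
  LinearMap.liftBaseChange_tmul ..

variable (hlin : ∀ k j (b : B k) (x : N k), ρ k j (b • x) = b • ρ k j x)
  (hco : ∀ k j l (x : N k), LinearMap.lTensor (B k) (ρ j l) (ρ k j x) =
    LinearMap.lTensor (B k) (TensorProduct.mk R (B j) (N l) 1) (ρ k l x))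
  (hcu : ∀ k (x : N k), (LinearMap.id : N k →ₗ[R] N k).liftBaseChange (B k) (ρ k k x) = x)

variable [Finite n] [∀ j, Module.Flat R (B j)]

include hlin hco hcu

theorem bijective_descEv (k : n) : Function.Bijective (descEv ρ k) := by
  classical
  haveI := Fintype.ofFinite n
  let μ : B k ⊗[R] N k →ₗ[B k] N k := (LinearMap.id : N k →ₗ[R] N k).liftBaseChange (B k)
  let e := TensorProduct.piRight R R (B k) N
  let e' := TensorProduct.piRight R R (B k) (fun p : n × n => B p.1 ⊗[R] N p.2)
  have hd : ∀ w (p : n × n), e' ((descDiff ρ).lTensor (B k) w) p =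
      LinearMap.lTensor (B k) (ρ p.1 p.2) (e w p.1) -
        LinearMap.lTensor (B k) (TensorProduct.mk R (B p.1) (N p.2) 1) (e w p.2) := fun w p => by
    induction w using TensorProduct.induction_on with
    | zero => simp
    | tmul b z => simp [e, e', descDiff, TensorProduct.tmul_sub]
    | add a b ha hb => simp only [map_add, Pi.add_apply, ha, hb]; abel
  have hev : ∀ y : B k ⊗[R] descended ρ, descEv ρ k y = μ (e ((descended ρ).subtype.lTensor (B k) y) k) := fun y => by
    induction y using TensorProduct.induction_on with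
    | zero => simp
    | tmul b z => simp [descEv_tmul, e, μ]
    | add a b ha hb => simp only [map_add, Pi.add_apply, ha, hb]
  have hinj : Function.Injective ((descended ρ).subtype.lTensor (B k)) :=
    Module.Flat.lTensor_preserves_injective_linearMap _ (descended ρ).injective_subtype
  have hexact : Function.Exact ((descended ρ).subtype.lTensor (B k)) ((descDiff ρ).lTensor (B k)) :=
    Module.Flat.lTensor_exact _ (LinearMap.exact_subtype_ker_map (descDiff ρ))
  refine ⟨(injective_iff_map_eq_zero _).2 fun y hy => hinj ?_, fun x => ?_⟩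
  · rw [map_zero]
    refine e.injective ?_
    rw [map_zero]
    set w := (descended ρ).subtype.lTensor (B k) y
    have hw : (descDiff ρ).lTensor (B k) w = 0 := (hexact w).2 ⟨y, rfl⟩
    funext l
    have h0 : LinearMap.lTensor (B k) (ρ k l) (e w k) =
        LinearMap.lTensor (B k) (TensorProduct.mk R (B k) (N l) 1) (e w l) := sub_eq_zero.1 (by
      rw [← hd w (k, l), hw, map_zero, Pi.zero_apply])
    let μ' : B k ⊗[R] (B k ⊗[R] N l) →ₗ[B k] B k ⊗[R] N l :=
      (LinearMap.id : B k ⊗[R] N l →ₗ[R] B k ⊗[R] N l).liftBaseChange (B k)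
    have h1 : ∀ v, μ' (LinearMap.lTensor (B k) (ρ k l) v) = ρ k l (μ v) := fun v => by
      induction v using TensorProduct.induction_on with
      | zero => simp
      | tmul b z => simp [μ, μ', hlin]
      | add a b ha hb => simp only [map_add, ha, hb]
    have h2 : ∀ v, μ' (LinearMap.lTensor (B k) (TensorProduct.mk R (B k) (N l) 1) v) = v := fun v => by
      induction v using TensorProduct.induction_on with
      | zero => simp
      | tmul b z => simp [μ', TensorProduct.smul_tmul']
      | add a b ha hb => simp only [map_add, ha, hb]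
    show e w l = 0
    rw [← h2 (e w l), ← h0, h1, ← hev, hy, map_zero]
  · let w : B k ⊗[R] (∀ j, N j) := e.symm fun j => ρ k j x
    have hw : (descDiff ρ).lTensor (B k) w = 0 := e'.injective (by
      rw [map_zero]
      funext p
      rw [hd, show e w = fun j => ρ k j x from e.apply_symm_apply _, Pi.zero_apply]
      exact sub_eq_zero.2 (hco k p.1 p.2 x))
    obtain ⟨y, hy⟩ := (hexact w).1 hw
    exact ⟨y, by rw [hev, hy, show e w = fun j => ρ k j x from e.apply_symm_apply _]; exact hcu k x⟩

end Groth.Agent.FpqcMod
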