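import Groth.Agent.FpqcMod.Eff.Datum
import Groth.Agent.FpqcMod.Eff.Alg

/-!
# A descent datum on affine charts over an affine open
-/

universe u

set_option autoImplicit false
set_option backward.isDefEq.respectTransparency false
set_option backward.isDefEq.respectTransparency.types false
set_option linter.style.haveILetI false

open CategoryTheory CategoryTheory.Limits AlgebraicGeometry TopologicalSpace Opposite
open scoped TensorProduct

namespace Groth.Agent.FpqcMod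

open Groth.Agent.EtLC12.AssocUnit Groth.Agent.QCoh

variable {S : Scheme.{u}} {ι : Type u} {X : ι → Scheme.{u}} {f : ∀ i, X i ⟶ S} {V : S.Opens}

variable (f) in
/-- An affine chart of the family over an open of the base. -/
structure Chart (V : S.Opens) where
  /-- The index. -/
  i : ι
  /-- The open. -/
  W : (X i).Opens
  hW : IsAffineOpen W
  hle : W ≤ (f i) ⁻¹ᵁ V

/-- The ring of a chart. -/
def CB (c : Chart f V) : Type u := Γ(X c.i, c.W)

noncomputable instance (c : Chart f V) : CommRing (CB c) := inferInstanceAs (CommRing Γ(X c.i, c.W))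

noncomputable instance (c : Chart f V) : Algebra Γ(S, V) (CB c) :=
  ((f c.i).appLE V c.W c.hle).hom.toAlgebra

instance (c : Chart f V) [Flat (f c.i)] [hV : Fact (IsAffineOpen V)] : Module.Flat Γ(S, V) (CB c) :=
  HasRingHomProperty.appLE @Flat (f c.i) inferInstance ⟨V, hV.out⟩ ⟨c.W, c.hW⟩ c.hle

variable (D : Desc.modPF.{u}.DescentData f)

/-- The module of a chart. -/
def CN (c : Chart f V) : Type u := Γ(Dm D c.i, c.W)

noncomputable instance (c : Chart f V) : AddCommGroup (CN D c) := inferInstanceAs (AddCommGroup Γ(Dm D c.i, c.W))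

noncomputable instance instModB (c : Chart f V) : Module (CB c) (CN D c) :=
  inferInstanceAs (Module Γ(X c.i, c.W) Γ(Dm D c.i, c.W))

noncomputable instance instModR (c : Chart f V) : Module Γ(S, V) (CN D c) :=
  Module.compHom _ (algebraMap Γ(S, V) (CB c))

instance (c : Chart f V) : IsScalarTower Γ(S, V) (CB c) (CN D c) := .of_algebraMap_smul fun _ _ => rfl

section Spec

variable (hV : IsAffineOpen V) {C : Type u} [CommRing C] [Algebra Γ(S, V) C] {C' : Type u} [CommRing C']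
  [Algebra Γ(S, V) C']

/-- An algebra over the chart as a scheme over the base. -/
noncomputable def qC (hV : IsAffineOpen V) (C : Type u) [CommRing C] [Algebra Γ(S, V) C] :
    Spec (CommRingCat.of C) ⟶ S :=
  Spec.map (CommRingCat.ofHom (algebraMap Γ(S, V) C)) ≫ hV.fromSpec

/-- An algebra over a chart as a scheme over the chart. -/
noncomputable def toX {c : Chart f V} (φ : CB c →ₐ[Γ(S, V)] C) : Spec (CommRingCat.of C) ⟶ X c.i :=
  Spec.map (CommRingCat.ofHom (R := Γ(X c.i, c.W)) φ.toRingHom) ≫ c.hW.fromSpec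

lemma toX_comp {c : Chart f V} (φ : CB c →ₐ[Γ(S, V)] C) : toX φ ≫ f c.i = qC hV C := by
  rw [toX, Category.assoc, ← exists_chart_map (f c.i) hV c.hW c.hle, ← Category.assoc, ← Spec.map_comp, qC]
  congr 2
  exact CommRingCat.hom_ext (RingHom.ext fun r => φ.commutes r)

lemma toX_pre {c : Chart f V} (φ : CB c →ₐ[Γ(S, V)] C) :
    (⊤ : (Spec (CommRingCat.of C)).Opens) ≤ toX φ ⁻¹ᵁ c.W := fun p _ => by
  show c.hW.fromSpec.base _ ∈ c.W
  exact c.hW.range_fromSpec.subset ⟨_, rfl⟩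

/-- Elements of an algebra as functions. -/
noncomputable def iC (x : C) : Γ(Spec (CommRingCat.of C), ⊤) := (Scheme.ΓSpecIso (CommRingCat.of C)).inv x

lemma iC_mul (x y : C) : iC (x * y) = iC x * iC y := map_mul _ _ _

lemma iC_add (x y : C) : iC (x + y) = iC x + iC y := map_add _ _ _

lemma iC_one : iC (1 : C) = 1 := map_one _

lemma toX_appLE {c : Chart f V} (φ : CB c →ₐ[Γ(S, V)] C) (b : CB c) :
    (toX φ).appLE c.W ⊤ (toX_pre φ) b = iC (φ b) :=
  ConcreteCategory.congr_hom (spec_map_appLE c.hW (CommRingCat.ofHom (R := Γ(X c.i, c.W)) φ.toRingHom) (toX_pre φ)) b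

/-- Sections on a chart algebra. -/
def PP {c : Chart f V} (φ : CB c →ₐ[Γ(S, V)] C) : Type u :=
  Γ((Scheme.Modules.pullback (toX φ)).obj (Dm D c.i), ⊤)

noncomputable instance {c : Chart f V} (φ : CB c →ₐ[Γ(S, V)] C) : AddCommGroup (PP D φ) :=
  inferInstanceAs (AddCommGroup Γ((Scheme.Modules.pullback (toX φ)).obj (Dm D c.i), ⊤))

noncomputable instance {c : Chart f V} (φ : CB c →ₐ[Γ(S, V)] C) :
    Module Γ(Spec (CommRingCat.of C), ⊤) (PP D φ) :=
  inferInstanceAs (Module Γ(Spec (CommRingCat.of C), ⊤) Γ((Scheme.Modules.pullback (toX φ)).obj (Dm D c.i), ⊤))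

/-- Pulled back sections. -/
noncomputable def Sec {c : Chart f V} (φ : CB c →ₐ[Γ(S, V)] C) : CN D c →+ PP D φ :=
  AddMonoidHom.mk' (fun n => pullSec (toX φ) (Dm D c.i) (toX_pre φ) n) (pullSec_add _ _ _)

lemma Sec_smul {c : Chart f V} (φ : CB c →ₐ[Γ(S, V)] C) (b : CB c) (n : CN D c) :
    Sec D φ (b • n) = iC (φ b) • Sec D φ n :=
  (pullSec_smul (toX φ) (Dm D c.i) (toX_pre φ) b n).trans (congrArg (· • Sec D φ n) (toX_appLE φ b))

lemma spec_comp (ψ : C →ₐ[Γ(S, V)] C') {c : Chart f V} (φ : CB c →ₐ[Γ(S, V)] C)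
    (φ' : CB c →ₐ[Γ(S, V)] C') (h : ψ.comp φ = φ') :
    Spec.map (CommRingCat.ofHom ψ.toRingHom) ≫ toX φ = toX φ' := by
  subst h
  rw [toX, toX, ← Category.assoc, ← Spec.map_comp]
  rfl

/-- Pullback along a homomorphism of algebras. -/
noncomputable def G (ψ : C →ₐ[Γ(S, V)] C') {c : Chart f V} (φ : CB c →ₐ[Γ(S, V)] C)
    (φ' : CB c →ₐ[Γ(S, V)] C') (h : ψ.comp φ = φ') : PP D φ →+ PP D φ' :=
  AddMonoidHom.mk'
    (fun z => T (Dm D c.i) (Spec.map (CommRingCat.ofHom ψ.toRingHom)) (toX φ) (toX φ')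
      (spec_comp ψ φ φ' h) (U := ⊤) (W := ⊤) le_top z)
    (T_add _ _ _ _ _ _)

lemma spec_map_top (g : CommRingCat.of C ⟶ CommRingCat.of C') (x : C) :
    (Spec.map g).appLE ⊤ ⊤ le_top (iC x) = iC (g x) := by
  have h : (Spec.map g).appLE ⊤ ⊤ le_top = (Spec.map g).appTop := Scheme.Hom.app_eq_appLE _ |>.symm
  rw [h]
  exact spec_appTop_scalar g x

lemma G_smul (ψ : C →ₐ[Γ(S, V)] C') {c : Chart f V} (φ : CB c →ₐ[Γ(S, V)] C)
    (φ' : CB c →ₐ[Γ(S, V)] C') (h : ψ.comp φ = φ') (x : C) (z : PP D φ) :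
    G D ψ φ φ' h (iC x • z) = iC (ψ x) • G D ψ φ φ' h z :=
  (T_smul (Dm D c.i) (Spec.map (CommRingCat.ofHom ψ.toRingHom)) (toX φ) (toX φ') (spec_comp ψ φ φ' h)
      (U := ⊤) (W := ⊤) le_top (iC x) z).trans
    (congrArg (· • G D ψ φ φ' h z) (spec_map_top (CommRingCat.ofHom ψ.toRingHom) x))

lemma G_Sec (ψ : C →ₐ[Γ(S, V)] C') {c : Chart f V} (φ : CB c →ₐ[Γ(S, V)] C)
    (φ' : CB c →ₐ[Γ(S, V)] C') (h : ψ.comp φ = φ') (n : CN D c) :
    G D ψ φ φ' h (Sec D φ n) = Sec D φ' n :=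
  T_pullSec (Dm D c.i) (Spec.map (CommRingCat.ofHom ψ.toRingHom)) (toX φ) (toX φ') (spec_comp ψ φ φ' h)
    (U := ⊤) (W := ⊤) le_top (toX_pre φ) n

/-- The comparison on chart algebras. -/
noncomputable def HH {c d : Chart f V} (φ : CB c →ₐ[Γ(S, V)] C) (ψ : CB d →ₐ[Γ(S, V)] C) : CN D c →+ PP D ψ :=
  AddMonoidHom.mk' (fun n => Hs D (toX_comp hV φ) (toX_comp hV ψ) (toX_pre φ) n) (Hs_add _ _ _ _)

lemma HH_smul {c d : Chart f V} (φ : CB c →ₐ[Γ(S, V)] C) (ψ : CB d →ₐ[Γ(S, V)] C) (b : CB c) (n : CN D c) :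
    HH D hV φ ψ (b • n) = iC (φ b) • HH D hV φ ψ n :=
  (Hs_smul D (toX_comp hV φ) (toX_comp hV ψ) (toX_pre φ) b n).trans
    (congrArg (· • HH D hV φ ψ n) (toX_appLE φ b))

lemma G_HH (g : C →ₐ[Γ(S, V)] C') {c d : Chart f V} (φ : CB c →ₐ[Γ(S, V)] C) (ψ : CB d →ₐ[Γ(S, V)] C)
    (φ' : CB c →ₐ[Γ(S, V)] C') (ψ' : CB d →ₐ[Γ(S, V)] C') (hφ : g.comp φ = φ') (hψ : g.comp ψ = ψ') (n : CN D c) :
    G D g ψ ψ' hψ (HH D hV φ ψ n) = HH D hV φ' ψ' n :=
  Hs_natural D (toX_comp hV φ) (toX_comp hV ψ) (Spec.map (CommRingCat.ofHom g.toRingHom))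
    (spec_comp g φ φ' hφ) (spec_comp g ψ ψ' hψ)
    (toX_comp hV φ') (toX_comp hV ψ') (toX_pre φ) le_top (toX_pre φ') n

lemma HH_self {c : Chart f V} (φ : CB c →ₐ[Γ(S, V)] C) (n : CN D c) : HH D hV φ φ n = Sec D φ n :=
  Hs_self D (toX_comp hV φ) (toX_pre φ) n

/-- The comparison as a map of sections. -/
noncomputable def HM {c d : Chart f V} (φ : CB c →ₐ[Γ(S, V)] C) (ψ : CB d →ₐ[Γ(S, V)] C) : PP D φ →+ PP D ψ :=
  ((hm D (toX_comp hV φ) (toX_comp hV ψ)).app ⊤).hom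

lemma HM_smul {c d : Chart f V} (φ : CB c →ₐ[Γ(S, V)] C) (ψ : CB d →ₐ[Γ(S, V)] C)
    (x : Γ(Spec (CommRingCat.of C), ⊤)) (z : PP D φ) : HM D hV φ ψ (x • z) = x • HM D hV φ ψ z :=
  Scheme.Modules.Hom.app_smul _ x z

lemma HM_Sec {c d : Chart f V} (φ : CB c →ₐ[Γ(S, V)] C) (ψ : CB d →ₐ[Γ(S, V)] C) (n : CN D c) :
    HM D hV φ ψ (Sec D φ n) = HH D hV φ ψ n := rfl

lemma HM_HH {c d e : Chart f V} (φ : CB c →ₐ[Γ(S, V)] C) (ψ : CB d →ₐ[Γ(S, V)] C) (χ : CB e →ₐ[Γ(S, V)] C)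
    (n : CN D c) : HM D hV ψ χ (HH D hV φ ψ n) = HH D hV φ χ n :=
  Hs_comp D (toX_comp hV φ) (toX_comp hV ψ) (toX_comp hV χ) (toX_pre φ) n

end Spec

section Psi

variable (E : Type u) [CommRing E] [Algebra Γ(S, V) E] (c : Chart f V)

/-- The inclusion of a chart into a product. -/
noncomputable abbrev iR : CB c →ₐ[Γ(S, V)] E ⊗[Γ(S, V)] CB c := Algebra.TensorProduct.includeRight

/-- Sections over the product as a tensor product. -/
noncomputable def Ψ : E ⊗[Γ(S, V)] CN D c →+ PP D (iR E c) :=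
  TensorProduct.liftAddHom
    (AddMonoidHom.mk' (fun e => AddMonoidHom.mk'
        (fun n : CN D c => iC (e ⊗ₜ[Γ(S, V)] (1 : CB c)) • Sec D (iR E c) n) fun n n' => by rw [map_add, smul_add])
      fun e e' => AddMonoidHom.ext fun n => by
        show iC ((e + e') ⊗ₜ[Γ(S, V)] (1 : CB c)) • Sec D (iR E c) n = _
        rw [TensorProduct.add_tmul, iC_add, add_smul]
        rfl)
    fun r e n => by
      show iC ((r • e) ⊗ₜ[Γ(S, V)] (1 : CB c)) • Sec D (iR E c) n = iC (e ⊗ₜ[Γ(S, V)] (1 : CB c)) • Sec D (iR E c) (algebraMap _ (CB c) r • n)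
      rw [Sec_smul, ← mul_smul, ← iC_mul]
      congr 2
      rw [Algebra.TensorProduct.includeRight_apply, Algebra.TensorProduct.tmul_mul_tmul, mul_one, one_mul,
        Algebra.algebraMap_eq_smul_one, TensorProduct.smul_tmul]

lemma Ψ_tmul (e : E) (n : CN D c) : Ψ D E c (e ⊗ₜ n) = iC (e ⊗ₜ[Γ(S, V)] (1 : CB c)) • Sec D (iR E c) n := rfl

lemma Ψ_one (n : CN D c) : Ψ D E c ((1 : E) ⊗ₜ n) = Sec D (iR E c) n := by
  rw [Ψ_tmul, show ((1 : E) ⊗ₜ[Γ(S, V)] (1 : CB c)) = 1 from Algebra.TensorProduct.one_def.symm, iC_one, one_smul]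

lemma Ψ_smul (e : E) (w : E ⊗[Γ(S, V)] CN D c) :
    Ψ D E c (e • w) = iC (e ⊗ₜ[Γ(S, V)] (1 : CB c)) • Ψ D E c w := by
  induction w using TensorProduct.induction_on with
  | zero => simp
  | tmul e' n =>
    rw [TensorProduct.smul_tmul', Ψ_tmul, Ψ_tmul, ← mul_smul, ← iC_mul, Algebra.TensorProduct.tmul_mul_tmul,
      one_mul, smul_eq_mul]
  | add a b ha hb => rw [smul_add, map_add, map_add, ha, hb, smul_add]

end Psi

end Groth.Agent.FpqcMod
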