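import Groth.Agent.FpqcMod.Eff.PsiBij

/-!
# The coactions of a descent datum on affine charts
-/

universe u

set_option autoImplicit false
set_option backward.isDefEq.respectTransparency false
set_option backward.isDefEq.respectTransparency.types false
set_option linter.style.haveILetI false

open CategoryTheory CategoryTheory.Limits AlgebraicGeometry TopologicalSpace Opposite
open scoped TensorProduct

namespace Groth.Agent.FpqcMod

open Groth.Agent.EtLC12.AssocUnit Groth.Agent.QCoh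

/-- Pulling back sections along an open immersion onto everything. -/
theorem bijective_pullSec_of_isOpenImmersion {Z Y : Scheme.{u}} (g : Y ⟶ Z) [IsOpenImmersion g] (M : Z.Modules)
    {O : Z.Opens} (hO : O ≤ g.opensRange) (hle : (⊤ : Y.Opens) ≤ g ⁻¹ᵁ O) :
    Function.Bijective (pullSec g M hle) := by
  haveI : IsIso (homOfLE hle).op :=
    ⟨(homOfLE le_top).op, Subsingleton.elim _ _, Subsingleton.elim _ _⟩
  exact (ConcreteCategory.bijective_of_isIso
    (((Scheme.Modules.pullback g).obj M).presheaf.map (homOfLE hle).op)).comp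
      (bijective_usec_of_isOpenImmersion g M O hO)

/-- Restriction to an open subscheme is injective. -/
theorem injective_T_ι {Y Z : Scheme.{u}} (M : Z.Modules) (b : Y ⟶ Z) (U : Y.Opens) :
    Function.Injective (T M U.ι b (U.ι ≫ b) rfl (U := ⊤) (W := U) U.ι_preimage_self.ge) := by
  have h1 := bijective_pullSec_of_isOpenImmersion U.ι ((Scheme.Modules.pullback b).obj M) (O := U)
    (by rw [Scheme.Opens.opensRange_ι]) U.ι_preimage_self.ge
  haveI := Scheme.Modules.Hom.isIso_iff_isIso_app.1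
    (inferInstance : IsIso (τ M U.ι b (U.ι ≫ b) rfl).hom) ⊤
  exact (ConcreteCategory.bijective_of_isIso ((τ M U.ι b (U.ι ≫ b) rfl).hom.app ⊤)).1.comp h1.1

variable {S : Scheme.{u}} {ι : Type u} {X : ι → Scheme.{u}} {f : ∀ i, X i ⟶ S} {V : S.Opens}
  (D : Desc.modPF.{u}.DescentData f) (hV : IsAffineOpen V)

lemma CN_smul_R (c : Chart f V) (r : Γ(S, V)) (n : CN D c) : r • n = algebraMap Γ(S, V) (CB c) r • n := rfl

variable (hD : ∀ i, Coh.IsQCoh (Dm D i))

/-- The coaction between two charts. -/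
noncomputable def ρ (k j : Chart f V) : CN D k →ₗ[Γ(S, V)] CB k ⊗[Γ(S, V)] CN D j :=
  let e := Equiv.ofBijective _ (bijective_Ψ D hD (CB k) j)
  let h : CN D k → PP D (iR (CB k) j) :=
    HH D hV (Algebra.TensorProduct.includeLeft : CB k →ₐ[Γ(S, V)] CB k ⊗[Γ(S, V)] CB j) (iR (CB k) j)
  { toFun := fun n => e.symm (h n)
    map_add' := fun n n' => e.injective (by
      show e (e.symm (h (n + n'))) = Ψ D (CB k) j (e.symm (h n) + e.symm (h n'))
      rw [e.apply_symm_apply, map_add]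
      show _ = e (e.symm (h n)) + e (e.symm (h n'))
      rw [e.apply_symm_apply, e.apply_symm_apply]
      exact map_add (HH D hV _ _) n n')
    map_smul' := fun r n => e.injective (by
      show e (e.symm (h (r • n))) = Ψ D (CB k) j ((RingHom.id _) r • e.symm (h n))
      rw [e.apply_symm_apply, RingHom.id_apply, ← algebraMap_smul (CB k) r (e.symm (h n)), Ψ_smul]
      show _ = iC _ • e (e.symm (h n))
      rw [e.apply_symm_apply]
      show HH D hV _ _ (algebraMap Γ(S, V) (CB k) r • n) = _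
      rw [HH_smul]
      rfl) }

lemma Ψ_ρ (k j : Chart f V) (n : CN D k) :
    Ψ D (CB k) j (ρ D hV hD k j n) =
      HH D hV (Algebra.TensorProduct.includeLeft : CB k →ₐ[Γ(S, V)] CB k ⊗[Γ(S, V)] CB j) (iR (CB k) j) n :=
  (Equiv.ofBijective _ (bijective_Ψ D hD (CB k) j)).apply_symm_apply _

theorem ρ_lin (k j : Chart f V) (b : CB k) (n : CN D k) :
    ρ D hV hD k j (b • n) = b • ρ D hV hD k j n := by
  refine (bijective_Ψ D hD (CB k) j).1 ?_
  rw [Ψ_ρ, Ψ_smul, Ψ_ρ, HH_smul]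
  rfl

theorem ρ_counit (k : Chart f V) (n : CN D k) :
    (LinearMap.id : CN D k →ₗ[Γ(S, V)] CN D k).liftBaseChange (CB k) (ρ D hV hD k k n) = n := by
  let δ : CB k ⊗[Γ(S, V)] CB k →ₐ[Γ(S, V)] CB k := Algebra.TensorProduct.lmul' Γ(S, V)
  have hδl : δ.comp (Algebra.TensorProduct.includeLeft : CB k →ₐ[Γ(S, V)] CB k ⊗[Γ(S, V)] CB k) =
      AlgHom.id Γ(S, V) (CB k) := AlgHom.ext fun x => by simp [δ]
  have hδr : δ.comp (iR (CB k) k) = AlgHom.id Γ(S, V) (CB k) := AlgHom.ext fun x => by simp [δ]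
  have hG : ∀ w, G D δ (iR (CB k) k) (AlgHom.id Γ(S, V) (CB k)) hδr (Ψ D (CB k) k w) =
      Sec D (AlgHom.id Γ(S, V) (CB k))
        ((LinearMap.id : CN D k →ₗ[Γ(S, V)] CN D k).liftBaseChange (CB k) w) := fun w => by
    induction w using TensorProduct.induction_on with
    | zero => simp only [map_zero]
    | tmul c m =>
      rw [Ψ_tmul, G_smul, G_Sec, LinearMap.liftBaseChange_tmul, LinearMap.id_apply, Sec_smul]
      congr 2
      simp [δ]
    | add a b ha hb => simp only [map_add, ha, hb]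
  have hinj : Function.Injective (Sec D (AlgHom.id Γ(S, V) (CB k))) := by
    have e : toX (AlgHom.id Γ(S, V) (CB k)) = k.hW.fromSpec := by
      show Spec.map (CommRingCat.ofHom (R := Γ(X k.i, k.W)) (RingHom.id (CB k))) ≫ _ = _
      rw [show CommRingCat.ofHom (R := Γ(X k.i, k.W)) (RingHom.id (CB k)) = 𝟙 _ from rfl]
      erw [Spec.map_id, Category.id_comp]
    haveI : IsOpenImmersion (toX (AlgHom.id Γ(S, V) (CB k))) := e ▸ inferInstance
    exact (bijective_pullSec_of_isOpenImmersion (toX (AlgHom.id Γ(S, V) (CB k))) (Dm D k.i) (O := k.W)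
      (fun p hp => by show p ∈ Set.range (toX _).base; rw [e]; exact k.hW.range_fromSpec.ge hp) (toX_pre _)).1
  refine hinj ?_
  rw [← hG, Ψ_ρ, G_HH D hV δ _ _ _ _ hδl hδr, HH_self]

theorem ρ_coassoc (k j l : Chart f V) (n : CN D k) :
    LinearMap.lTensor (CB k) (ρ D hV hD j l) (ρ D hV hD k j n) =
      LinearMap.lTensor (CB k) (TensorProduct.mk Γ(S, V) (CB j) (CN D l) 1) (ρ D hV hD k l n) := by
  let R := Γ(S, V)
  let E := CB k ⊗[R] CB j
  let C₃ := E ⊗[R] CB l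
  let pk : CB k →ₐ[R] C₃ :=
    (Algebra.TensorProduct.includeLeft : E →ₐ[R] C₃).comp (Algebra.TensorProduct.includeLeft : CB k →ₐ[R] E)
  let pj : CB j →ₐ[R] C₃ := (Algebra.TensorProduct.includeLeft : E →ₐ[R] C₃).comp (iR (CB k) j)
  let pl : CB l →ₐ[R] C₃ := iR E l
  let ψjl : CB j ⊗[R] CB l →ₐ[R] C₃ := Algebra.TensorProduct.map (iR (CB k) j) (AlgHom.id R (CB l))
  let ψkl : CB k ⊗[R] CB l →ₐ[R] C₃ :=
    Algebra.TensorProduct.map (Algebra.TensorProduct.includeLeft : CB k →ₐ[R] E) (AlgHom.id R (CB l))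
  have hjl₁ : ψjl.comp (Algebra.TensorProduct.includeLeft : CB j →ₐ[R] CB j ⊗[R] CB l) = pj :=
    AlgHom.ext fun x => (Algebra.TensorProduct.map_tmul _ _ _ _).trans rfl
  have hjl₂ : ψjl.comp (iR (CB j) l) = pl := AlgHom.ext fun x =>
    (Algebra.TensorProduct.map_tmul (iR (CB k) j) (AlgHom.id R (CB l)) 1 x).trans (by rw [map_one]; rfl)
  have hkl₁ : ψkl.comp (Algebra.TensorProduct.includeLeft : CB k →ₐ[R] CB k ⊗[R] CB l) = pk :=
    AlgHom.ext fun x => (Algebra.TensorProduct.map_tmul _ _ _ _).trans rfl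
  have hkl₂ : ψkl.comp (iR (CB k) l) = pl := AlgHom.ext fun x =>
    (Algebra.TensorProduct.map_tmul (Algebra.TensorProduct.includeLeft : CB k →ₐ[R] E) (AlgHom.id R (CB l)) 1 x).trans
      (by rw [map_one]; rfl)
  let A := TensorProduct.assoc R (CB k) (CB j) (CN D l)
  have h1 : ∀ w, HM D hV pj pl (G D (Algebra.TensorProduct.includeLeft : E →ₐ[R] C₃) (iR (CB k) j) pj rfl
      (Ψ D (CB k) j w)) = Ψ D E l (A.symm (LinearMap.lTensor (CB k) (ρ D hV hD j l) w)) := fun w => by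
    induction w using TensorProduct.induction_on with
    | zero => simp only [map_zero]
    | tmul c m =>
      rw [Ψ_tmul, G_smul, G_Sec, HM_smul, HM_Sec, ← G_HH D hV ψjl _ _ pj pl hjl₁ hjl₂ m,
        LinearMap.lTensor_tmul, ← Ψ_ρ D hV hD]
      generalize ρ D hV hD j l m = v
      induction v using TensorProduct.induction_on with
      | zero => simp only [map_zero, smul_zero, TensorProduct.tmul_zero]
      | tmul d n' =>
        rw [Ψ_tmul, G_smul, G_Sec, show A.symm (c ⊗ₜ (d ⊗ₜ n')) = (c ⊗ₜ d) ⊗ₜ n' from rfl, Ψ_tmul,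
          ← mul_smul, ← iC_mul]
        congr 2
        show ((c ⊗ₜ[R] (1 : CB j)) ⊗ₜ[R] (1 : CB l) : C₃) * ψjl (d ⊗ₜ[R] (1 : CB l)) = (c ⊗ₜ[R] d) ⊗ₜ[R] (1 : CB l)
        rw [show ψjl (d ⊗ₜ[R] (1 : CB l)) = ((1 : CB k) ⊗ₜ[R] d) ⊗ₜ[R] (1 : CB l) from
          Algebra.TensorProduct.map_tmul _ _ _ _, Algebra.TensorProduct.tmul_mul_tmul,
          Algebra.TensorProduct.tmul_mul_tmul, mul_one, mul_one, one_mul]
      | add a b ha hb => simp only [map_add, smul_add, TensorProduct.tmul_add, ha, hb]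
    | add a b ha hb => simp only [map_add, ha, hb]
  have h2 : ∀ w, G D ψkl (iR (CB k) l) pl hkl₂ (Ψ D (CB k) l w) =
      Ψ D E l (A.symm (LinearMap.lTensor (CB k) (TensorProduct.mk R (CB j) (CN D l) 1) w)) := fun w => by
    induction w using TensorProduct.induction_on with
    | zero => simp only [map_zero]
    | tmul c m =>
      rw [Ψ_tmul, G_smul, G_Sec, LinearMap.lTensor_tmul, TensorProduct.mk_apply,
        show A.symm (c ⊗ₜ ((1 : CB j) ⊗ₜ m)) = (c ⊗ₜ (1 : CB j)) ⊗ₜ m from rfl, Ψ_tmul]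
      congr 2
    | add a b ha hb => simp only [map_add, ha, hb]
  refine A.symm.injective ((bijective_Ψ D hD E l).1 ?_)
  rw [← h1, ← h2, Ψ_ρ, Ψ_ρ, G_HH D hV _ _ _ pk pj rfl rfl, G_HH D hV ψkl _ _ pk pl hkl₁ hkl₂, HM_HH]

lemma ρ_eq_iff (k j : Chart f V) (n : CN D k) (m : CN D j) :
    ρ D hV hD k j n = (1 : CB k) ⊗ₜ m ↔
      HH D hV (Algebra.TensorProduct.includeLeft : CB k →ₐ[Γ(S, V)] CB k ⊗[Γ(S, V)] CB j) (iR (CB k) j) n =
        Sec D (iR (CB k) j) m := by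
  rw [← (bijective_Ψ D hD (CB k) j).1.eq_iff, Ψ_ρ, Ψ_one]

/-- Two sections of charts agreeing on the product agree everywhere. -/
theorem Hs_eq_of_ρ {k j : Chart f V} {n : CN D k} {m : CN D j} (h : ρ D hV hD k j n = (1 : CB k) ⊗ₜ m)
    {Y : Scheme.{u}} {a : Y ⟶ X k.i} {b : Y ⟶ X j.i} {q : Y ⟶ S} (ha : a ≫ f k.i = q) (hb : b ≫ f j.i = q)
    {U : Y.Opens} (hUa : U ≤ a ⁻¹ᵁ k.W) (hUb : U ≤ b ⁻¹ᵁ j.W) :
    Hs D ha hb hUa (show Γ(Dm D k.i, k.W) from n) = pullSec b _ hUb (show Γ(Dm D j.i, j.W) from m) := by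
  have hr : ∀ (c : Chart f V) (e : U.toScheme ⟶ X c.i), (⊤ : U.toScheme.Opens) ≤ e ⁻¹ᵁ c.W →
      Set.range e.base ⊆ Set.range c.hW.fromSpec.base := fun c e he => by
    rintro _ ⟨w, rfl⟩
    rw [c.hW.range_fromSpec]
    exact he trivial
  have hka : (⊤ : U.toScheme.Opens) ≤ (U.ι ≫ a) ⁻¹ᵁ k.W := fun w _ => hUa w.2
  have hjb : (⊤ : U.toScheme.Opens) ≤ (U.ι ≫ b) ⁻¹ᵁ j.W := fun w _ => hUb w.2
  let la := IsOpenImmersion.lift k.hW.fromSpec (U.ι ≫ a) (hr k _ hka)
  let lb := IsOpenImmersion.lift j.hW.fromSpec (U.ι ≫ b) (hr j _ hjb)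
  have hl : la ≫ Spec.map (CommRingCat.ofHom (algebraMap Γ(S, V) (CB k))) =
      lb ≫ Spec.map (CommRingCat.ofHom (algebraMap Γ(S, V) (CB j))) := by
    rw [← cancel_mono hV.fromSpec, Category.assoc, Category.assoc]
    show la ≫ Spec.map ((f k.i).appLE V k.W k.hle) ≫ hV.fromSpec =
      lb ≫ Spec.map ((f j.i).appLE V j.W j.hle) ≫ hV.fromSpec
    rw [exists_chart_map (f k.i) hV k.hW k.hle, exists_chart_map (f j.i) hV j.hW j.hle,
      IsOpenImmersion.lift_fac_assoc, IsOpenImmersion.lift_fac_assoc, Category.assoc, Category.assoc, ha, hb]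
  let g : U.toScheme ⟶ Spec (CommRingCat.of (CB k ⊗[Γ(S, V)] CB j)) :=
    pullback.lift la lb hl ≫ (pullbackSpecIso Γ(S, V) (CB k) (CB j)).hom
  have hga : g ≫ toX (Algebra.TensorProduct.includeLeft : CB k →ₐ[Γ(S, V)] CB k ⊗[Γ(S, V)] CB j) = U.ι ≫ a := by
    simp only [g, toX, Category.assoc]
    erw [pullbackSpecIso_hom_fst_assoc, pullback.lift_fst_assoc, IsOpenImmersion.lift_fac]
  have hgb : g ≫ toX (iR (CB k) j) = U.ι ≫ b := by
    simp only [g, toX, Category.assoc]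
    erw [pullbackSpecIso_hom_snd_assoc, pullback.lift_snd_assoc, IsOpenImmersion.lift_fac]
  have hqa : (U.ι ≫ a) ≫ f k.i = U.ι ≫ q := by rw [Category.assoc, ha]
  have hqb : (U.ι ≫ b) ≫ f j.i = U.ι ≫ q := by rw [Category.assoc, hb]
  refine injective_T_ι (Dm D j.i) b U ?_
  rw [Hs_natural D ha hb U.ι rfl rfl hqa hqb hUa U.ι_preimage_self.ge hka,
    T_pullSec (Dm D j.i) U.ι b (U.ι ≫ b) rfl U.ι_preimage_self.ge hUb]
  rw [← Hs_natural D (toX_comp hV _) (toX_comp hV _) g hga hgb hqa hqb (toX_pre _) le_top hka,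
    ← T_pullSec (Dm D j.i) g (toX (iR (CB k) j)) (U.ι ≫ b) hgb le_top (toX_pre _)]
  exact congrArg (T (Dm D j.i) g (toX (iR (CB k) j)) (U.ι ≫ b) hgb (U := ⊤) (W := ⊤) le_top)
    ((ρ_eq_iff D hV hD k j n m).1 h)

end Groth.Agent.FpqcMod
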