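import Groth.Agent.FpqcMod.Hom
import Groth.Agent.QCoh.ClosedPush

/-!
# The module of compatible families of a descent datum
-/

universe u

set_option autoImplicit false
set_option backward.isDefEq.respectTransparency false
set_option backward.isDefEq.respectTransparency.types false
set_option linter.style.haveILetI false

open CategoryTheory CategoryTheory.Limits AlgebraicGeometry TopologicalSpace Opposite
open CategoryTheory.Pseudofunctor CategoryTheory.Pseudofunctor.LocallyDiscreteOpToCat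

namespace Groth.Agent.FpqcMod

open Groth.Agent.EtLC12.AssocUnit Groth.Agent.QCoh

variable {S : Scheme.{u}} {ι : Type u} {X : ι → Scheme.{u}} {f : ∀ i, X i ⟶ S}
  (D : Desc.modPF.{u}.DescentData f)

/-- The modules of a datum. -/
noncomputable abbrev Dm (i : ι) : (X i).Modules := D.obj i

variable {Y : Scheme.{u}} {i j : ι} {a : Y ⟶ X i} {b : Y ⟶ X j} {q : Y ⟶ S} (ha : a ≫ f i = q) (hb : b ≫ f j = q)

/-- The comparison of a datum on inverse images. -/
noncomputable def hm : (Scheme.Modules.pullback a).obj (Dm D i) ⟶ (Scheme.Modules.pullback b).obj (Dm D j) :=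
  D.hom q a b ha hb

/-- The comparison of a datum applied to a pulled back section. -/
noncomputable def Hs {U : Y.Opens} {W : (X i).Opens} (hU : U ≤ a ⁻¹ᵁ W) (n : Γ(Dm D i, W)) :
    Γ((Scheme.Modules.pullback b).obj (Dm D j), U) :=
  (hm D ha hb).app U (pullSec a _ hU n)

lemma Hs_add {U : Y.Opens} {W : (X i).Opens} (hU : U ≤ a ⁻¹ᵁ W) (n n' : Γ(Dm D i, W)) :
    Hs D ha hb hU (n + n') = Hs D ha hb hU n + Hs D ha hb hU n' := by
  rw [Hs, Hs, Hs, pullSec_add, map_add]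

lemma Hs_zero {U : Y.Opens} {W : (X i).Opens} (hU : U ≤ a ⁻¹ᵁ W) : Hs D ha hb hU (0 : Γ(Dm D i, W)) = 0 := by
  have := Hs_add D ha hb hU 0 0
  rw [add_zero] at this
  exact add_eq_left.1 this.symm

lemma Hs_neg {U : Y.Opens} {W : (X i).Opens} (hU : U ≤ a ⁻¹ᵁ W) (n : Γ(Dm D i, W)) :
    Hs D ha hb hU (-n) = -Hs D ha hb hU n :=
  eq_neg_of_add_eq_zero_left (by rw [← Hs_add, neg_add_cancel, Hs_zero])

lemma Hs_smul {U : Y.Opens} {W : (X i).Opens} (hU : U ≤ a ⁻¹ᵁ W) (r : Γ(X i, W)) (n : Γ(Dm D i, W)) :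
    Hs D ha hb hU (r • n) = a.appLE W U hU r • Hs D ha hb hU n := by
  rw [Hs, Hs, pullSec_smul, Scheme.Modules.Hom.app_smul]

omit hb in
lemma pullSec_res {Z Z' : Scheme.{u}} (c : Z' ⟶ Z) (M : Z.Modules) {W W' : Z.Opens} (e : W' ⟶ W) {U : Z'.Opens}
    (hU : U ≤ c ⁻¹ᵁ W') (n : Γ(M, W)) :
    pullSec c M hU (M.presheaf.map e.op n) = pullSec c M (hU.trans ((Opens.map c.base).map e).le) n := by
  show ((Scheme.Modules.pullback c).obj M).presheaf.map _ (usec c M W' _) = _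
  rw [usec_map]
  exact map_map _ _ _

omit hb in
lemma res_pullSec {Z Z' : Scheme.{u}} (c : Z' ⟶ Z) (M : Z.Modules) {W : Z.Opens} {U U' : Z'.Opens}
    (hU : U ≤ c ⁻¹ᵁ W) (e : U' ⟶ U) (n : Γ(M, W)) :
    ((Scheme.Modules.pullback c).obj M).presheaf.map e.op (pullSec c M hU n) = pullSec c M (e.le.trans hU) n :=
  map_map _ _ _

lemma Hs_res {U : Y.Opens} {W W' : (X i).Opens} (e : W' ⟶ W) (hU : U ≤ a ⁻¹ᵁ W') (n : Γ(Dm D i, W)) :
    Hs D ha hb hU ((Dm D i).presheaf.map e.op n) = Hs D ha hb (hU.trans ((Opens.map a.base).map e).le) n := by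
  rw [Hs, Hs, pullSec_res]

lemma res_Hs {U U' : Y.Opens} {W : (X i).Opens} (hU : U ≤ a ⁻¹ᵁ W) (e : U' ⟶ U) (n : Γ(Dm D i, W)) :
    ((Scheme.Modules.pullback b).obj (Dm D j)).presheaf.map e.op (Hs D ha hb hU n) =
      Hs D ha hb (e.le.trans hU) n := by
  rw [Hs, Hs, ← map_app_comm, res_pullSec]

lemma Hs_natural {Y' : Scheme.{u}} (g : Y' ⟶ Y) {ga : Y' ⟶ X i} {gb : Y' ⟶ X j} (hga : g ≫ a = ga)
    (hgb : g ≫ b = gb) {q' : Y' ⟶ S} (ha' : ga ≫ f i = q') (hb' : gb ≫ f j = q') {U : Y.Opens} {U' : Y'.Opens}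
    {W : (X i).Opens} (hU : U ≤ a ⁻¹ᵁ W) (hg : U' ≤ g ⁻¹ᵁ U) (hU' : U' ≤ ga ⁻¹ᵁ W) (n : Γ(Dm D i, W)) :
    T (Dm D j) g b gb hgb hg (Hs D ha hb hU n) = Hs D ha' hb' hU' n := by
  have hh : hm D ha' hb' = (τ (Dm D i) g a ga hga).inv ≫
      (Scheme.Modules.pullback g).map (hm D ha hb) ≫ (τ (Dm D j) g b gb hgb).hom := by
    have hq : g ≫ q = q' := by rw [← ha, ← ha', ← hga, Category.assoc]
    refine (D.pullHom_hom g q q' hq a b ha hb ga gb hga hgb).symm.trans ?_
    rw [pullHom, mapComp'_hom_app _ g a ga hga, mapComp'_inv_app _ g b gb hgb]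
    rfl
  have h2 : T (Dm D i) g a ga hga hg (pullSec a _ hU n) = pullSec ga _ hU' n :=
    T_pullSec (Dm D i) g a ga hga hg hU n
  rw [Hs, Hs, hh, ← h2, T, T, ← map_pullSec (hm D ha hb) hg]
  exact congrArg (fun z => (τ (Dm D j) g b gb hgb).hom.app U' (((Scheme.Modules.pullback g).map (hm D ha hb)).app U' z))
    (congrArg (fun t : (Scheme.Modules.pullback g).obj ((Scheme.Modules.pullback a).obj (Dm D i)) ⟶ _ =>
      t.app U' (pullSec g _ hg (pullSec a _ hU n))) (τ (Dm D i) g a ga hga).hom_inv_id).symm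

lemma Hs_self {U : Y.Opens} {W : (X i).Opens} (hU : U ≤ a ⁻¹ᵁ W) (n : Γ(Dm D i, W)) :
    Hs D ha ha hU n = pullSec a _ hU n :=
  congrArg (fun t : (Scheme.Modules.pullback a).obj (Dm D i) ⟶ (Scheme.Modules.pullback a).obj (Dm D i) =>
    t.app U (pullSec a _ hU n)) (D.hom_self q a ha)

lemma Hs_comp {k : ι} {c : Y ⟶ X k} (hc : c ≫ f k = q) {U : Y.Opens} {W : (X i).Opens} (hU : U ≤ a ⁻¹ᵁ W)
    (n : Γ(Dm D i, W)) : (hm D hb hc).app U (Hs D ha hb hU n) = Hs D ha hc hU n :=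
  congrArg (fun t : (Scheme.Modules.pullback a).obj (Dm D i) ⟶ (Scheme.Modules.pullback c).obj (Dm D k) =>
    t.app U (pullSec a _ hU n)) (D.hom_comp q a b c ha hb hc)

/-- Compatible families of sections of a datum. -/
def GCompat (O : S.Opens) (t : ∀ i, Γ(Dm D i, (f i) ⁻¹ᵁ O)) : Prop :=
  ∀ (Y : Scheme.{u}) (i j : ι) (a : Y ⟶ X i) (b : Y ⟶ X j) (q : Y ⟶ S) (ha : a ≫ f i = q) (hb : b ≫ f j = q)
    (U : Y.Opens) (hUa : U ≤ a ⁻¹ᵁ ((f i) ⁻¹ᵁ O)) (hUb : U ≤ b ⁻¹ᵁ ((f j) ⁻¹ᵁ O)),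
      Hs D ha hb hUa (t i) = pullSec b _ hUb (t j)

/-- Sections of the descended module. -/
noncomputable def grp (O : S.Opens) : AddSubgroup (∀ i, Γ(Dm D i, (f i) ⁻¹ᵁ O)) where
  carrier := {t | GCompat D O t}
  add_mem' := fun {s t} hs ht Y i j a b q ha hb U hUa hUb => by
    show Hs D ha hb hUa (s i + t i) = pullSec b _ hUb (s j + t j)
    rw [Hs_add, pullSec_add, hs Y i j a b q ha hb U hUa hUb, ht Y i j a b q ha hb U hUa hUb]
  zero_mem' := fun Y i j a b q ha hb U hUa hUb => by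
    show Hs D ha hb hUa 0 = pullSec b _ hUb 0
    rw [Hs_zero]
    exact (map_zero (AddMonoidHom.mk' (pullSec b (Dm D j) hUb) (pullSec_add b _ hUb))).symm
  neg_mem' := fun {s} hs Y i j a b q ha hb U hUa hUb => by
    show Hs D ha hb hUa (-(s i)) = pullSec b _ hUb (-(s j))
    rw [Hs_neg, hs Y i j a b q ha hb U hUa hUb]
    exact (map_neg (AddMonoidHom.mk' (pullSec b (Dm D j) hUb) (pullSec_add b _ hUb)) _).symm

theorem grp_ext {O : S.Opens} {s t : grp D O} (h : ∀ i, s.1 i = t.1 i) : s = t := Subtype.ext (funext h)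

omit hb in
lemma appLE_app_eq {O : S.Opens} (U : Y.Opens) (ha : a ≫ f i = q) (hUa : U ≤ a ⁻¹ᵁ ((f i) ⁻¹ᵁ O)) (r : Γ(S, O)) :
    a.appLE ((f i) ⁻¹ᵁ O) U hUa ((f i).app O r) = q.appLE O U (ha ▸ hUa) r := by
  subst ha
  exact (ConcreteCategory.congr_hom (Scheme.Hom.comp_appLE a (f i) O U hUa) r).symm

noncomputable instance instModule (O : S.Opens) : Module Γ(S, O) (grp D O) where
  smul r s := ⟨fun i => (f i).app O r • s.1 i, fun Y i j a b q ha hb U hUa hUb => by
    rw [Hs_smul, pullSec_smul, s.2 Y i j a b q ha hb U hUa hUb, appLE_app_eq U ha hUa r, appLE_app_eq U hb hUb r]⟩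
  one_smul s := grp_ext D fun i => by
    show (f i).app O 1 • s.1 i = s.1 i
    rw [map_one, one_smul]
  mul_smul r r' s := grp_ext D fun i => by
    show (f i).app O (r * r') • s.1 i = (f i).app O r • (f i).app O r' • s.1 i
    rw [map_mul, mul_smul]
  smul_zero r := grp_ext D fun i => smul_zero _
  smul_add r s t := grp_ext D fun i => smul_add _ _ _
  add_smul r r' s := grp_ext D fun i => by
    show (f i).app O (r + r') • s.1 i = (f i).app O r • s.1 i + (f i).app O r' • s.1 i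
    rw [map_add, add_smul]
  zero_smul s := grp_ext D fun i => by
    show (f i).app O 0 • s.1 i = 0
    rw [map_zero, zero_smul]

lemma smul_val {O : S.Opens} (r : Γ(S, O)) (s : grp D O) (i : ι) : (r • s).1 i = (f i).app O r • s.1 i := rfl

/-- Restriction. -/
noncomputable def gres {O O' : S.Opens} (e : O' ⟶ O) : grp D O →+ grp D O' where
  toFun s := ⟨fun i => (Dm D i).presheaf.map ((Opens.map (f i).base).map e).op (s.1 i),
    fun Y i j a b q ha hb U hUa hUb => by
      rw [Hs_res, pullSec_res]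
      exact s.2 Y i j a b q ha hb U _ _⟩
  map_zero' := grp_ext D fun i => map_zero ((Dm D i).presheaf.map ((Opens.map (f i).base).map e).op).hom
  map_add' s t := grp_ext D fun i =>
    map_add ((Dm D i).presheaf.map ((Opens.map (f i).base).map e).op).hom (s.1 i) (t.1 i)

lemma gres_val {O O' : S.Opens} (e : O' ⟶ O) (s : grp D O) (i : ι) :
    (gres D e s).1 i = (Dm D i).presheaf.map ((Opens.map (f i).base).map e).op (s.1 i) := rfl

/-- The presheaf of sections. -/
noncomputable def psh : (S.Opens)ᵒᵖ ⥤ Ab.{u} where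
  obj O := AddCommGrpCat.of (grp D O.unop)
  map e := AddCommGrpCat.ofHom (gres D e.unop)
  map_id O := AddCommGrpCat.hom_ext (AddMonoidHom.ext fun s => grp_ext D fun _ => map_id' _ _)
  map_comp e e' := AddCommGrpCat.hom_ext (AddMonoidHom.ext fun s => grp_ext D fun _ => (map_map _ _ _).symm)

noncomputable instance (O : (S.Opens)ᵒᵖ) : Module (S.ringCatSheaf.obj.obj O) ((psh D).obj O) :=
  inferInstanceAs (Module Γ(S, O.unop) (grp D O.unop))

/-- The presheaf of modules. -/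
noncomputable def pmod : S.PresheafOfModules :=
  PresheafOfModules.ofPresheaf (R := S.ringCatSheaf.obj) (psh D) fun O O' e r s =>
    grp_ext D fun i => by
      show (Dm D i).presheaf.map ((Opens.map (f i).base).map e.unop).op ((f i).app O.unop r • (show grp D O.unop from s).1 i) =
        (f i).app O'.unop (S.presheaf.map e r) •
          (Dm D i).presheaf.map ((Opens.map (f i).base).map e.unop).op ((show grp D O.unop from s).1 i)
      rw [map_smul']
      congr 1
      exact (ConcreteCategory.congr_hom ((f i).naturality e) r).symm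

theorem isSheaf : Presheaf.IsSheaf (Opens.grothendieckTopology S) (pmod D).presheaf := by
  refine (TopCat.Presheaf.isSheaf_iff_isSheafUniqueGluing (X := S.toPresheafedSpace.carrier)
    (psh D)).2 fun J W sf hsf => ?_
  have hex : ∀ i : ι, ∃! g : Γ(Dm D i, (f i) ⁻¹ᵁ iSup W),
      ∀ k, (Dm D i).presheaf.map ((Opens.map (f i).base).map (Opens.leSupr W k)).op g = (sf k).1 i := fun i => by
    refine TopCat.Sheaf.existsUnique_gluing' ⟨(Dm D i).presheaf, (Dm D i).isSheaf⟩ (fun k => (f i) ⁻¹ᵁ W k) _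
      (fun k => (Opens.map (f i).base).map (Opens.leSupr W k)) (fun p hp => ?_) (fun k => (sf k).1 i) fun k l => ?_
    · obtain ⟨k, hk⟩ := Opens.mem_iSup.1 hp
      exact Opens.mem_iSup.2 ⟨k, hk⟩
    · exact congrArg (fun s : grp D (W k ⊓ W l) => s.1 i) (hsf k l)
  choose g hg huniq using hex
  refine ⟨⟨g, fun Y i j a b q ha hb U hUa hUb => ?_⟩, fun k => grp_ext D fun i => hg i k, fun t ht =>
    grp_ext D fun i => huniq i _ fun k => congrArg (fun s : grp D (W k) => s.1 i) (ht k)⟩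
  refine sub_eq_zero.1 (eq_zero_of_locally U _ fun p hp => ?_)
  obtain ⟨k, hk⟩ := Opens.mem_iSup.1 (show q.base p ∈ iSup W from by rw [← ha]; exact hUa hp)
  refine ⟨U ⊓ q ⁻¹ᵁ W k, Opens.infLELeft _ _, ⟨hp, hk⟩, ?_⟩
  rw [map_sub, sub_eq_zero, res_Hs, res_pullSec]
  have h1 : U ⊓ q ⁻¹ᵁ W k ≤ a ⁻¹ᵁ ((f i) ⁻¹ᵁ W k) := by subst ha; exact inf_le_right
  have h2 : U ⊓ q ⁻¹ᵁ W k ≤ b ⁻¹ᵁ ((f j) ⁻¹ᵁ W k) := by subst hb; exact inf_le_right
  refine ((Hs_res D ha hb ((Opens.map (f i).base).map (Opens.leSupr W k)) h1 (g i)).symm.trans ?_).trans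
    (pullSec_res b _ ((Opens.map (f j).base).map (Opens.leSupr W k)) h2 (g j))
  rw [hg, hg]
  exact (sf k).2 Y i j a b q ha hb _ h1 h2

/-- The descended module. -/
noncomputable def descMod : S.Modules := ⟨pmod D, isSheaf D⟩

/-- The projection to a member. -/
noncomputable def proj (i : ι) : descMod D ⟶ (Scheme.Modules.pushforward (f i)).obj (Dm D i) :=
  ⟨PresheafOfModules.homMk
    { app := fun O => AddCommGrpCat.ofHom
        (AddMonoidHom.mk' (fun s : grp D O.unop => (s.1 i : Γ(Dm D i, (f i) ⁻¹ᵁ O.unop))) fun _ _ => rfl)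
      naturality := fun _ _ _ => rfl }
    fun _ _ _ => rfl⟩

lemma proj_app (i : ι) {O : S.Opens} (s : Γ(descMod D, O)) : (proj D i).app O s = (show grp D O from s).1 i := rfl

/-- The comparison with the datum. -/
noncomputable def θ (i : ι) : (Scheme.Modules.pullback (f i)).obj (descMod D) ⟶ Dm D i :=
  ((Scheme.Modules.pullbackPushforwardAdjunction (f i)).homEquiv _ _).symm (proj D i)

lemma θ_usec (i : ι) {O : S.Opens} (s : Γ(descMod D, O)) :
    (θ D i).app ((f i) ⁻¹ᵁ O) (usec (f i) (descMod D) O s) = (show grp D O from s).1 i := by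
  have h := ((Scheme.Modules.pullbackPushforwardAdjunction (f i)).homEquiv _ _).apply_symm_apply (proj D i)
  rw [Adjunction.homEquiv_unit] at h
  exact congrArg (fun t : descMod D ⟶ (Scheme.Modules.pushforward (f i)).obj (Dm D i) => t.app O s) h

/-- The comparison commutes with the transition maps. -/
theorem θ_comm ⦃Y : Scheme.{u}⦄ (q : Y ⟶ S) ⦃i j : ι⦄ (a : Y ⟶ X i) (b : Y ⟶ X j) (ha : a ≫ f i = q)
    (hb : b ≫ f j = q) :
    (Scheme.Modules.pullback a).map (θ D i) ≫ hm D ha hb =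
      ((τ (descMod D) a (f i) q ha).hom ≫ (τ (descMod D) b (f j) q hb).inv) ≫
        (Scheme.Modules.pullback b).map (θ D j) := by
  rw [← cancel_epi (τ (descMod D) a (f i) q ha).inv, Category.assoc, Iso.inv_hom_id_assoc]
  refine ((Scheme.Modules.pullbackPushforwardAdjunction q).homEquiv _ _).injective ?_
  rw [Adjunction.homEquiv_unit, Adjunction.homEquiv_unit]
  refine Scheme.Modules.hom_ext _ _ fun O => ?_
  ext s
  have hUa : q ⁻¹ᵁ O ≤ a ⁻¹ᵁ ((f i) ⁻¹ᵁ O) := by subst ha; exact le_rfl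
  have hUb : q ⁻¹ᵁ O ≤ b ⁻¹ᵁ ((f j) ⁻¹ᵁ O) := by subst hb; exact le_rfl
  have key : ∀ (k : ι) (c : Y ⟶ X k) (hc : c ≫ f k = q) (hU : q ⁻¹ᵁ O ≤ c ⁻¹ᵁ ((f k) ⁻¹ᵁ O)),
      (τ (descMod D) c (f k) q hc).inv.app (q ⁻¹ᵁ O) (usec q (descMod D) O s) =
        pullSec c _ hU (usec (f k) (descMod D) O s) := fun k c hc hU => by
    have h1 : pullSec (f k) (descMod D) (le_refl ((f k) ⁻¹ᵁ O)) s = usec (f k) (descMod D) O s := map_id' _ _
    have h2 := T_pullSec (descMod D) c (f k) q hc hU le_rfl s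
    rw [h1] at h2
    have h3 : pullSec q (descMod D) (le_refl (q ⁻¹ᵁ O)) s = usec q (descMod D) O s := map_id' _ _
    rw [← h3]
    refine (congrArg ((τ (descMod D) c (f k) q hc).inv.app (q ⁻¹ᵁ O)) h2.symm).trans ?_
    exact congrArg (fun t : (Scheme.Modules.pullback c).obj ((Scheme.Modules.pullback (f k)).obj (descMod D)) ⟶ _ =>
      t.app (q ⁻¹ᵁ O) (pullSec c _ hU (usec (f k) (descMod D) O s))) (τ (descMod D) c (f k) q hc).hom_inv_id
  show (hm D ha hb).app _ (((Scheme.Modules.pullback a).map (θ D i)).app _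
      ((τ (descMod D) a (f i) q ha).inv.app _ (usec q (descMod D) O s))) =
    ((Scheme.Modules.pullback b).map (θ D j)).app _
      ((τ (descMod D) b (f j) q hb).inv.app _ (usec q (descMod D) O s))
  rw [key i a ha hUa, key j b hb hUb, map_pullSec, map_pullSec, θ_usec, θ_usec]
  exact (show grp D O from s).2 Y i j a b q ha hb _ hUa hUb

/-- The comparison with the datum, as an isomorphism of descent data. -/
theorem nonempty_iso (h : ∀ i, IsIso (θ D i)) :
    Nonempty ((Desc.modPF.{u}.toDescentData f).obj (descMod D) ≅ D) :=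
  ⟨DescentData.isoMk (fun i => haveI := h i; asIso (θ D i)) fun Y q i j a b ha hb => by
    rw [ofObj_hom (descMod D) f i j a b q ha hb]
    exact θ_comm D q a b ha hb⟩

end Groth.Agent.FpqcMod
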