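import Groth.Agent.FpqcMod.Eff.Sections
import Groth.Agent.QCoh.Qcqs
import Groth.Agent.QCoh.Pullback

/-!
# Descent data for quasi-coherent modules along fpqc coverings are effective
-/

universe u

set_option autoImplicit false
set_option backward.isDefEq.respectTransparency false
set_option backward.isDefEq.respectTransparency.types false
set_option linter.style.haveILetI false

open CategoryTheory CategoryTheory.Limits AlgebraicGeometry TopologicalSpace Opposite
open scoped TensorProduct

namespace Groth.Agent.FpqcMod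

open Groth.Agent.EtLC12.AssocUnit Groth.Agent.QCoh

variable {S : Scheme.{u}} {ι : Type u} {X : ι → Scheme.{u}} {f : ∀ i, X i ⟶ S}
  (hf : Presieve.ofArrows X f ∈ Scheme.fpqcPrecoverage S) (D : Desc.modPF.{u}.DescentData f)
  (hD : ∀ i, Coh.IsQCoh (Dm D i))

include hf in
theorem exists_charts {V : S.Opens} (hV : IsAffineOpen V) :
    ∃ (m : ℕ) (c : Fin m → Chart f V), IsCov c := by
  obtain ⟨m, φ, W, hW, hle, hcov⟩ := exists_cover f hf hV
  exact ⟨m, fun j => ⟨φ j, W j, hW j, hle j⟩, hcov⟩

omit hf in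
lemma chart_smul {O : S.Opens} (c : Chart f O) (r : Γ(S, O)) (t : Γ(Dm D c.i, (f c.i) ⁻¹ᵁ O)) :
    (Dm D c.i).presheaf.map (homOfLE c.hle).op ((f c.i).app O r • t) =
      (f c.i).appLE O c.W c.hle r • (Dm D c.i).presheaf.map (homOfLE c.hle).op t := by
  rw [map_smul']
  rfl

include hf hD in
theorem isQCoh_descMod : Coh.IsQCoh (descMod D) := by
  haveI := flat_of_mem f hf
  refine isQCoh_of_sections (M := descMod D) ?_ ?_
  · intro U hU g s
    obtain ⟨m, c, hcov⟩ := exists_charts hf hU
    let Dg : S.Opens := S.basicOpen g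
    let s' : grp D Dg := s
    let gW : ∀ j, Γ(X (c j).i, (c j).W) := fun j => (f (c j).i).appLE U (c j).W (c j).hle g
    have hO : ∀ j, (X (c j).i).basicOpen (gW j) = (c j).W ⊓ (f (c j).i) ⁻¹ᵁ Dg := fun j =>
      Scheme.basicOpen_appLE (f (c j).i) (c j).W U (c j).hle g
    let sj : ∀ j, Γ(Dm D (c j).i, (X (c j).i).basicOpen (gW j)) := fun j =>
      (Dm D (c j).i).presheaf.map (homOfLE ((hO j).le.trans inf_le_right)).op (s'.1 (c j).i)
    have hex : ∀ j, ∃ (n : ℕ) (x : Γ(Dm D (c j).i, (c j).W)),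
        (Dm D (c j).i).presheaf.map (homOfLE ((X (c j).i).basicOpen_le (gW j))).op x =
          (X (c j).i).presheaf.map (homOfLE ((X (c j).i).basicOpen_le (gW j))).op (gW j) ^ n • sj j := fun j =>
      exists_pow_smul_eq_map (hD (c j).i) (c j).hW (gW j) (sj j)
    choose n x hx using hex
    let N := Finset.univ.sup n
    let y : ∀ j, CN D (c j) := fun j =>
      (show CN D (c j) from gW j ^ (N - n j) • x j)
    have hy : ∀ j, (Dm D (c j).i).presheaf.map (homOfLE ((X (c j).i).basicOpen_le (gW j))).op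
        (show Γ(Dm D (c j).i, (c j).W) from y j) =
          (X (c j).i).presheaf.map (homOfLE ((X (c j).i).basicOpen_le (gW j))).op (gW j) ^ N • sj j := fun j => by
      show (Dm D (c j).i).presheaf.map _ (gW j ^ (N - n j) • x j) = _
      rw [map_smul', map_pow, hx, smul_smul, ← pow_add, Nat.sub_add_cancel (Finset.le_sup (Finset.mem_univ j))]
    have hdiff : ∀ k j, ∃ e : ℕ, g ^ e • (ρ D hU hD (c k) (c j) (y k) - (1 : CB (c k)) ⊗ₜ y j) = 0 := by
      intro k j
      let C := CB (c k) ⊗[Γ(S, U)] CB (c j)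
      let Y : Scheme.{u} := Spec (CommRingCat.of C)
      let pl : CB (c k) →ₐ[Γ(S, U)] C := Algebra.TensorProduct.includeLeft
      let pr : CB (c j) →ₐ[Γ(S, U)] C := iR (CB (c k)) (c j)
      let q : Y ⟶ S := qC hU C
      have hq : (⊤ : Y.Opens) ≤ q ⁻¹ᵁ U := fun p _ => hU.range_fromSpec.subset ⟨_, rfl⟩
      let gC : Γ(Y, ⊤) := q.appLE U ⊤ hq g
      have hgC : gC = iC (algebraMap Γ(S, U) C g) :=
        ConcreteCategory.congr_hom (spec_map_appLE hU (CommRingCat.ofHom (algebraMap Γ(S, U) C)) hq) g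
      let δ : PP D pr := Ψ D (CB (c k)) (c j) (ρ D hU hD (c k) (c j) (y k) - (1 : CB (c k)) ⊗ₜ y j)
      obtain ⟨e, he⟩ := exists_pow_smul_eq_zero (M := (Scheme.Modules.pullback (toX pr)).obj (Dm D (c j).i))
        (isQCoh_pullback (toX pr) (hD (c j).i)) (isAffineOpen_top Y) gC δ (by
          show ((Scheme.Modules.pullback (toX pr)).obj (Dm D (c j).i)).presheaf.map _
            (Ψ D (CB (c k)) (c j) (ρ D hU hD (c k) (c j) (y k) - (1 : CB (c k)) ⊗ₜ y j)) = 0
          rw [map_sub, Ψ_ρ, Ψ_one]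
          refine (map_sub (((Scheme.Modules.pullback (toX pr)).obj (Dm D (c j).i)).presheaf.map
            (homOfLE (Y.basicOpen_le gC)).op).hom _ _).trans (sub_eq_zero.2 ?_)
          have hb : Y.basicOpen gC = ⊤ ⊓ q ⁻¹ᵁ Dg := Scheme.basicOpen_appLE q ⊤ U hq g
          have hpa : ∀ (d : Chart f U) (φ : CB d →ₐ[Γ(S, U)] C),
              Y.basicOpen gC ≤ toX φ ⁻¹ᵁ (d.W ⊓ (f d.i) ⁻¹ᵁ Dg) := fun d φ p hp => by
            refine ⟨toX_pre φ trivial, ?_⟩
            have h2 : q.base p ∈ Dg := (hb.le hp).2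
            rwa [show q = toX φ ≫ f d.i from (toX_comp hU φ).symm] at h2
          have hk : Y.basicOpen gC ≤ toX pl ⁻¹ᵁ (X (c k).i).basicOpen (gW k) :=
            (hpa (c k) pl).trans ((Opens.map (toX pl).base).map (homOfLE (hO k).ge)).le
          have hj : Y.basicOpen gC ≤ toX pr ⁻¹ᵁ (X (c j).i).basicOpen (gW j) :=
            (hpa (c j) pr).trans ((Opens.map (toX pr).base).map (homOfLE (hO j).ge)).le
          refine ((res_Hs D (toX_comp hU pl) (toX_comp hU pr) (toX_pre pl) (homOfLE (Y.basicOpen_le gC)) _).trans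
            (Hs_res D (toX_comp hU pl) (toX_comp hU pr) (homOfLE ((X (c k).i).basicOpen_le (gW k))) hk _).symm).trans
            (Eq.trans ?_ ((pullSec_res (toX pr) _ (homOfLE ((X (c j).i).basicOpen_le (gW j))) hj _).trans
              (res_pullSec (toX pr) _ (toX_pre pr) (homOfLE (Y.basicOpen_le gC)) _).symm))
          rw [hy k, hy j, Hs_smul, pullSec_smul, map_pow, map_pow]
          have hscal : ∀ (d : Chart f U) (φ : CB d →ₐ[Γ(S, U)] C)
              (h : Y.basicOpen gC ≤ toX φ ⁻¹ᵁ (X d.i).basicOpen ((f d.i).appLE U d.W d.hle g)),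
              (toX φ).appLE _ (Y.basicOpen gC) h ((X d.i).presheaf.map
                (homOfLE ((X d.i).basicOpen_le ((f d.i).appLE U d.W d.hle g))).op ((f d.i).appLE U d.W d.hle g)) =
                Y.presheaf.map (homOfLE (Y.basicOpen_le gC)).op gC := fun d φ h => by
            refine Eq.trans ?_ (congrArg (Y.presheaf.map (homOfLE (Y.basicOpen_le gC)).op)
              (((toX_appLE φ _).trans (congrArg iC (φ.commutes g))).trans hgC.symm))
            show ((X d.i).presheaf.map _ ≫ (toX φ).appLE _ (Y.basicOpen gC) h) ((f d.i).appLE U d.W d.hle g) =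
              ((toX φ).appLE d.W ⊤ (toX_pre φ) ≫ Y.presheaf.map _) ((f d.i).appLE U d.W d.hle g)
            rw [Scheme.Hom.map_appLE, Scheme.Hom.appLE_map]
          rw [hscal (c k) pl hk, hscal (c j) pr hj]
          congr 1
          rw [Hs_res, pullSec_res]
          exact s'.2 _ _ _ _ _ _ _ _ _ _ _)
      refine ⟨e, (bijective_Ψ D hD (CB (c k)) (c j)).1 ?_⟩
      rw [map_zero, ← algebraMap_smul (CB (c k)) (g ^ e), Ψ_smul]
      rw [hgC] at he
      have hpow : ∀ (z : C) (e : ℕ), iC (z ^ e) = iC z ^ e := fun z e => map_pow _ _ _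
      rw [show (algebraMap Γ(S, U) (CB (c k)) (g ^ e)) ⊗ₜ[Γ(S, U)] (1 : CB (c j)) =
        algebraMap Γ(S, U) C (g ^ e) from rfl, map_pow, hpow]
      exact he
    choose e he using hdiff
    let E := Finset.univ.sup fun p : Fin m × Fin m => e p.1 p.2
    have hz : (fun j => g ^ E • y j) ∈ Malg D hU hD c := (mem_Malg D hU hD c).2 fun k j => by
      rw [map_smul, TensorProduct.tmul_smul, ← sub_eq_zero]
      refine (smul_sub _ _ _).symm.trans ?_
      rw [show E = Finset.univ.sup fun p : Fin m × Fin m => e p.1 p.2 from rfl, ← Nat.sub_add_cancel (Finset.le_sup (f := fun p : Fin m × Fin m => e p.1 p.2) (Finset.mem_univ (k, j))),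
        pow_add, mul_smul, he, smul_zero]
    obtain ⟨t, ht⟩ := surjective_restr D hU hD c hcov ⟨_, hz⟩
    refine ⟨E + N, t, ?_⟩
    have hDg : IsAffineOpen Dg := hU.basicOpen g
    let c' : Fin m → Chart f Dg := fun j =>
      ⟨(c j).i, (X (c j).i).basicOpen (gW j), (c j).hW.basicOpen _, (hO j).le.trans inf_le_right⟩
    have hcov' : IsCov c' := fun p hp => by
      obtain ⟨j, w, hw, hwp⟩ := hcov p (S.basicOpen_le g hp)
      exact ⟨j, w, (hO j).ge ⟨hw, show (f (c j).i).base w ∈ Dg by rw [hwp]; exact hp⟩, hwp⟩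
    let gD : Γ(S, Dg) := S.presheaf.map (homOfLE (S.basicOpen_le g)).op g
    show gres D (homOfLE (S.basicOpen_le g)) t = gD ^ (E + N) • s'
    refine injective_restr D hDg hD c' hcov' (Subtype.ext (funext fun j => ?_))
    have htj : (Dm D (c j).i).presheaf.map (homOfLE (c j).hle).op (t.1 (c j).i) =
        gW j ^ E • (show Γ(Dm D (c j).i, (c j).W) from y j) := by
      refine (congrArg (fun z : Malg D hU hD c => z.1 j) ht).trans ?_
      show algebraMap Γ(S, U) (CB (c j)) (g ^ E) • y j = _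
      rw [map_pow]
      rfl
    show (Dm D (c j).i).presheaf.map (homOfLE (c' j).hle).op ((Dm D (c j).i).presheaf.map _ (t.1 (c j).i)) =
      (Dm D (c j).i).presheaf.map (homOfLE (c' j).hle).op ((f (c j).i).app Dg (gD ^ (E + N)) • s'.1 (c j).i)
    rw [chart_smul D (c' j), map_map]
    refine ((map_map (homOfLE ((X (c j).i).basicOpen_le (gW j))) (homOfLE (c j).hle) _).symm.trans ?_)
    rw [htj, map_smul', hy, smul_smul, map_pow, ← pow_add, map_pow]
    congr 2
    show _ = (f (c j).i).appLE Dg _ _ (S.presheaf.map _ g)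
    rw [← ConcreteCategory.comp_apply, ← ConcreteCategory.comp_apply, Scheme.Hom.map_appLE, Scheme.Hom.appLE_map]
  · intro U hU g t ht
    obtain ⟨m, c, hcov⟩ := exists_charts hf hU
    let gW : ∀ j, Γ(X (c j).i, (c j).W) := fun j => (f (c j).i).appLE U (c j).W (c j).hle g
    have hO : ∀ j, (X (c j).i).basicOpen (gW j) = (c j).W ⊓ (f (c j).i) ⁻¹ᵁ S.basicOpen g := fun j =>
      Scheme.basicOpen_appLE (f (c j).i) (c j).W U (c j).hle g
    let t' : grp D U := t
    have hex : ∀ j, ∃ n : ℕ, gW j ^ n • (Dm D (c j).i).presheaf.map (homOfLE (c j).hle).op (t'.1 (c j).i) = 0 := by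
      intro j
      refine exists_pow_smul_eq_zero (hD (c j).i) (c j).hW (gW j) _ ?_
      have h0 : (gres D (homOfLE (S.basicOpen_le g)) t').1 (c j).i = 0 :=
        congrArg (fun z : grp D (S.basicOpen g) => z.1 (c j).i) ht
      rw [map_map]
      refine (map_map (homOfLE ((hO j).le.trans inf_le_right))
        ((Opens.map (f (c j).i).base).map (homOfLE (S.basicOpen_le g))) _).symm.trans ?_
      rw [gres_val] at h0
      rw [h0, map_zero]
    choose n hn using hex
    refine ⟨Finset.univ.sup n, injective_restr D hU hD c hcov ?_⟩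
    rw [map_zero]
    refine Subtype.ext (funext fun j => ?_)
    show (Dm D (c j).i).presheaf.map (homOfLE (c j).hle).op ((f (c j).i).app U (g ^ Finset.univ.sup n) • t'.1 (c j).i) = 0
    rw [chart_smul D (c j), map_pow, ← Nat.sub_add_cancel (Finset.le_sup (f := n) (Finset.mem_univ j)), pow_add,
      mul_smul, hn, smul_zero]

include hf hD in
theorem isIso_θ (i : ι) : IsIso (θ D i) := by
  haveI := flat_of_mem f hf
  let Bs : Set (X i).Opens := {W | IsAffineOpen W ∧ ∃ V : S.Opens, IsAffineOpen V ∧ W ≤ (f i) ⁻¹ᵁ V}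
  have hBs : Opens.IsBasis Bs := Opens.isBasis_iff_nbhd.2 fun {U p} hp => by
    obtain ⟨V, hV, hpV, -⟩ := exists_isAffineOpen_mem_and_subset (U := (⊤ : S.Opens)) (x := (f i).base p)
      (Opens.mem_top _)
    obtain ⟨W, hW, hpW, hWle⟩ := exists_isAffineOpen_mem_and_subset (U := U ⊓ (f i) ⁻¹ᵁ V) (x := p) ⟨hp, hpV⟩
    exact ⟨W, ⟨hW, V, hV, fun x hx => (hWle hx).2⟩, hpW, fun x hx => (hWle hx).1⟩
  refine isIso_of_isBasis _ hBs ?_
  rintro W ⟨hW, V, hV, hle⟩
  obtain ⟨m, c, hcov⟩ := exists_charts hf hV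
  let d : Chart f V := ⟨i, W, hW, hle⟩
  let c' : Fin m ⊕ Unit → Chart f V := Sum.elim c fun _ => d
  have hcov' : IsCov c' := fun p hp => by
    obtain ⟨j, w, hw, hwp⟩ := hcov p hp
    exact ⟨Sum.inl j, w, hw, hwp⟩
  let M := descMod D
  let P : Type u := Γ((Scheme.Modules.pullback (f i)).obj M, W)
  letI : Algebra Γ(S, V) Γ(X i, W) := ((f i).appLE V W hle).hom.toAlgebra
  letI : Module Γ(S, V) P := Module.compHom _ ((f i).appLE V W hle).hom
  haveI : IsScalarTower Γ(S, V) Γ(X i, W) P := .of_algebraMap_smul fun _ _ => rfl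
  let l : Γ(M, V) →ₗ[Γ(S, V)] P :=
    { toFun := pullSec (f i) M hle
      map_add' := pullSec_add (f i) M hle
      map_smul' := fun r x => pullSec_smul (f i) M hle r x }
  have hl : IsBaseChange Γ(X i, W) l :=
    isBaseChange_pullback hV (f i) hW (isQCoh_descMod hf D hD) hle (fun _ => rfl) l fun _ => rfl
  let rl : Γ(M, V) →ₗ[Γ(S, V)] Malg D hV hD c' :=
    { toFun := fun s => restr D hV hD c' s
      map_add' := fun a b => map_add (restr D hV hD c') a b
      map_smul' := fun r s => Subtype.ext (funext fun j => chart_smul D (c' j) r ((show grp D V from s).1 (c' j).i)) }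
  let er : Γ(M, V) ≃ₗ[Γ(S, V)] Malg D hV hD c' :=
    LinearEquiv.ofBijective rl ⟨injective_restr D hV hD c' hcov', surjective_restr D hV hD c' hcov'⟩
  let ev := descEv (B := fun o => CB (c' o)) (fun a b => ρ D hV hD (c' a) (c' b)) (Sum.inr () : Fin m ⊕ Unit)
  let L : CB d ⊗[Γ(S, V)] Γ(M, V) → CN D d := fun w => ev (LinearEquiv.lTensor (CB d) er w)
  have hLbij : Function.Bijective L :=
    (bijective_ev D hV hD c' (Sum.inr ())).comp (LinearEquiv.lTensor (CB d) er).bijective
  have hcomm : ∀ w, (θ D i).app W (hl.equiv w) = L w := fun w => by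
    induction w using TensorProduct.induction_on with
    | zero =>
      rw [map_zero]
      refine (map_zero ((θ D i).app W).hom).trans ?_
      show _ = ev (LinearEquiv.lTensor (CB d) er 0)
      rw [map_zero, map_zero]
    | tmul b s =>
      rw [IsBaseChange.equiv_tmul]
      refine (Scheme.Modules.Hom.app_smul _ _ _).trans ?_
      show _ = ev (b ⊗ₜ er s)
      rw [descEv_tmul]
      show (show CB d from b) • (show CN D d from (θ D i).app W (pullSec (f i) M hle s)) =
        (show CB d from b) • (show CN D d from (restr D hV hD c' s).1 (Sum.inr ()))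
      congr 1
      refine (map_app_comm (θ D i) (homOfLE hle) (usec (f i) M V s)).trans ?_
      rw [θ_usec]
      rfl
    | add a b ha hb =>
      rw [map_add]
      refine (map_add ((θ D i).app W).hom _ _).trans ?_
      rw [ha, hb]
      show _ = ev (LinearEquiv.lTensor (CB d) er (a + b))
      rw [map_add, map_add]
  have h : ((θ D i).app W : _ → _) = L ∘ hl.equiv.symm := funext fun z => by
    rw [Function.comp_apply, ← hcomm, LinearEquiv.apply_symm_apply]
  rw [h]
  exact hLbij.comp hl.equiv.symm.bijective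

include hf hD in
/-- Effectiveness of descent for quasi-coherent modules. -/
theorem exists_descended :
    ∃ M : S.Modules, Coh.IsQCoh M ∧ Nonempty ((Desc.modPF.{u}.toDescentData f).obj M ≅ D) :=
  ⟨descMod D, isQCoh_descMod hf D hD, nonempty_iso D (isIso_θ hf D hD)⟩

end Groth.Agent.FpqcMod
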