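import Groth.Agent.FpqcMod.Eff.Chart

/-!
# Sections over products of charts are tensor products
-/

universe u

set_option autoImplicit false
set_option backward.isDefEq.respectTransparency false
set_option backward.isDefEq.respectTransparency.types false
set_option linter.style.haveILetI false

open CategoryTheory CategoryTheory.Limits AlgebraicGeometry TopologicalSpace Opposite
open scoped TensorProduct

namespace Groth.Agent.FpqcMod

open Groth.Agent.EtLC12.AssocUnit Groth.Agent.QCoh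

variable {S : Scheme.{u}} {ι : Type u} {X : ι → Scheme.{u}} {f : ∀ i, X i ⟶ S} {V : S.Opens}
  (D : Desc.modPF.{u}.DescentData f)

/-- Lifting an affine-local base change. -/
theorem exists_equiv_pullback {Z Y : Scheme.{u}} (g : Y ⟶ Z) {W : Z.Opens} (hW : IsAffineOpen W)
    (hY : IsAffineOpen (⊤ : Y.Opens)) {M : Z.Modules} (hM : Coh.IsQCoh M) (hle : (⊤ : Y.Opens) ≤ g ⁻¹ᵁ W)
    (A : Type u) [CommRing A] [Algebra Γ(Z, W) A] (e : A ≃+* Γ(Y, ⊤))
    (he : ∀ b : Γ(Z, W), e (algebraMap _ A b) = g.appLE W ⊤ hle b) :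
    ∃ L : A ⊗[Γ(Z, W)] Γ(M, W) ≃+ Γ((Scheme.Modules.pullback g).obj M, ⊤),
      ∀ x m, L (x ⊗ₜ m) = e x • pullSec g M hle m := by
  letI : Algebra Γ(Z, W) Γ(Y, ⊤) := (g.appLE W ⊤ hle).hom.toAlgebra
  letI : Module Γ(Z, W) Γ((Scheme.Modules.pullback g).obj M, ⊤) :=
    Module.compHom _ (algebraMap Γ(Z, W) Γ(Y, ⊤))
  haveI : IsScalarTower Γ(Z, W) Γ(Y, ⊤) Γ((Scheme.Modules.pullback g).obj M, ⊤) :=
    .of_algebraMap_smul fun _ _ => rfl
  let l : Γ(M, W) →ₗ[Γ(Z, W)] Γ((Scheme.Modules.pullback g).obj M, ⊤) :=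
    { toFun := pullSec g M hle
      map_add' := pullSec_add g M hle
      map_smul' := fun r x => pullSec_smul g M hle r x }
  have hl : IsBaseChange Γ(Y, ⊤) l := isBaseChange_pullback hW g hY hM hle (fun _ => rfl) l fun _ => rfl
  let eA : A ≃ₗ[Γ(Z, W)] Γ(Y, ⊤) :=
    { e.toAddEquiv with
      map_smul' := fun b x => by
        show e (b • x) = g.appLE W ⊤ hle b * e x
        rw [Algebra.smul_def, map_mul, he] }
  refine ⟨(TensorProduct.congr eA (LinearEquiv.refl Γ(Z, W) Γ(M, W))).toAddEquiv.trans hl.equiv.toAddEquiv,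
    fun x m => ?_⟩
  exact hl.equiv_tmul (e x) m

theorem bijective_Ψ (hD : ∀ i, Coh.IsQCoh (Dm D i)) (E : Type u) [CommRing E] [Algebra Γ(S, V) E]
    (c : Chart f V) : Function.Bijective (Ψ D E c) := by
  letI algC : Algebra (CB c) (E ⊗[Γ(S, V)] CB c) := Algebra.TensorProduct.rightAlgebra
  letI algC' : Algebra Γ(X c.i, c.W) (E ⊗[Γ(S, V)] CB c) := algC
  obtain ⟨L, hL⟩ := exists_equiv_pullback (toX (iR E c)) c.hW (isAffineOpen_top _) (hD c.i) (toX_pre (iR E c))
    (E ⊗[Γ(S, V)] CB c) (e := (Scheme.ΓSpecIso (CommRingCat.of (E ⊗[Γ(S, V)] CB c))).commRingCatIsoToRingEquiv.symm)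
    (fun b => (toX_appLE (iR E c) b).symm)
  let e₁ : E ⊗[Γ(S, V)] CN D c ≃ₗ[E] (E ⊗[Γ(S, V)] CB c) ⊗[CB c] CN D c :=
    (Algebra.IsPushout.cancelBaseChange Γ(S, V) E (CB c) (E ⊗[Γ(S, V)] CB c) (CN D c)).symm
  have h : (Ψ D E c : _ → _) = L ∘ e₁ := by
    funext w
    induction w using TensorProduct.induction_on with
    | zero => simp only [map_zero, Function.comp_apply]
    | tmul e n =>
      show _ = L (e₁ (e ⊗ₜ n))
      rw [show e₁ (e ⊗ₜ n) = (algebraMap E (E ⊗[Γ(S, V)] CB c) e) ⊗ₜ n from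
        Algebra.IsPushout.cancelBaseChange_symm_tmul _ _ _ _ _ _ _]
      exact (hL (algebraMap E (E ⊗[Γ(S, V)] CB c) e) n).symm
    | add a b ha hb =>
      simp only [Function.comp_apply] at ha hb ⊢
      rw [map_add, map_add, ha, hb]
      exact (map_add L _ _).symm
  rw [h]
  exact L.bijective.comp e₁.bijective

end Groth.Agent.FpqcMod
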