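import Groth.Agent.FpqcMod.Eff.Cocycle

/-!
# The descended module over an affine open
-/

universe u

set_option autoImplicit false
set_option backward.isDefEq.respectTransparency false
set_option backward.isDefEq.respectTransparency.types false
set_option linter.style.haveILetI false

open CategoryTheory CategoryTheory.Limits AlgebraicGeometry TopologicalSpace Opposite
open scoped TensorProduct

namespace Groth.Agent.FpqcMod

open Groth.Agent.EtLC12.AssocUnit Groth.Agent.QCoh

variable {S : Scheme.{u}} {ι : Type u} {X : ι → Scheme.{u}} {f : ∀ i, X i ⟶ S} {V : S.Opens}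
  (D : Desc.modPF.{u}.DescentData f) (hV : IsAffineOpen V) (hD : ∀ i, Coh.IsQCoh (Dm D i))
  [∀ i, Flat (f i)]

/-- A covering family of charts. -/
def IsCov {J : Type} (c : J → Chart f V) : Prop := ∀ y ∈ V, ∃ j, ∃ w ∈ (c j).W, (f (c j).i).base w = y

variable {J : Type} [Finite J] (c : J → Chart f V)

/-- The descended module along a family of charts. -/
noncomputable def Malg : Submodule Γ(S, V) (∀ j, CN D (c j)) :=
  descended (B := fun j => CB (c j)) (fun k j => ρ D hV hD (c k) (c j))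

omit [∀ i, Flat (f i)] [Finite J] in
lemma mem_Malg {z : ∀ j, CN D (c j)} :
    z ∈ Malg D hV hD c ↔ ∀ k j, ρ D hV hD (c k) (c j) (z k) = (1 : CB (c k)) ⊗ₜ z j :=
  mem_descended (B := fun j => CB (c j)) (fun k j => ρ D hV hD (c k) (c j))

theorem bijective_ev (k : J) : Function.Bijective (descEv (B := fun j => CB (c j)) (fun a b => ρ D hV hD (c a) (c b)) k) := by
  haveI := Fact.mk hV
  exact bijective_descEv (B := fun j => CB (c j)) _ (fun k j b x => ρ_lin D hV hD (c k) (c j) b x)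
    (fun k j l x => ρ_coassoc D hV hD (c k) (c j) (c l) x) (fun k x => ρ_counit D hV hD (c k) x) k

/-- The extension of a family by further charts. -/
noncomputable def sub {K : Type} (d : K → Chart f V) :
    Malg D hV hD (Sum.elim c d) →ₗ[Γ(S, V)] Malg D hV hD c where
  toFun z := ⟨fun j => z.1 (Sum.inl j),
    (mem_Malg D hV hD c).2 fun k j => (mem_Malg D hV hD (Sum.elim c d)).1 z.2 (Sum.inl k) (Sum.inl j)⟩
  map_add' _ _ := rfl
  map_smul' _ _ := rfl

theorem bijective_sub (hcov : IsCov c) {K : Type} [Finite K] (d : K → Chart f V) :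
    Function.Bijective (sub D hV hD c d) := by
  haveI := Fact.mk hV
  have hsurj : ∀ p : Ideal Γ(S, V), p.IsMaximal → ∃ j, p.map (algebraMap Γ(S, V) (CB (c j))) ≠ ⊤ :=
    exists_map_ne_top f hV (fun j => (c j).i) (fun j => (c j).W) (fun j => (c j).hW)
      (fun j => (c j).hle) hcov
  let l : ∀ k, CB (c k) ⊗[Γ(S, V)] Malg D hV hD (Sum.elim c d) →ₗ[Γ(S, V)]
      CB (c k) ⊗[Γ(S, V)] Malg D hV hD c := fun k => LinearMap.lTensor _ (sub D hV hD c d)
  have hl : ∀ k, Function.Bijective (l k) := fun k => by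
    let e₁ := descEv (B := fun o => CB (Sum.elim c d o))
      (fun a b => ρ D hV hD (Sum.elim c d a) (Sum.elim c d b)) (Sum.inl k : J ⊕ K)
    let e₂ := descEv (B := fun j => CB (c j)) (fun a b => ρ D hV hD (c a) (c b)) k
    have h : ∀ w, e₂ (l k w) = e₁ w := fun w => by
      induction w using TensorProduct.induction_on with
      | zero => exact (congrArg e₂ (map_zero (l k))).trans ((map_zero e₂).trans (map_zero e₁).symm)
      | tmul b z =>
        exact (descEv_tmul (B := fun j => CB (c j)) (fun a b => ρ D hV hD (c a) (c b)) k b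
          (sub D hV hD c d z)).trans
            (descEv_tmul (B := fun o => CB (Sum.elim c d o))
              (fun a b => ρ D hV hD (Sum.elim c d a) (Sum.elim c d b)) (Sum.inl k : J ⊕ K) b z).symm
      | add a b ha hb =>
        exact (congrArg e₂ (map_add (l k) a b)).trans
          ((map_add e₂ _ _).trans ((congrArg₂ (· + ·) ha hb).trans (map_add e₁ a b).symm))
    exact (Function.Bijective.of_comp_iff' (bijective_ev D hV hD c k) _).1
      ((funext h : e₂ ∘ l k = e₁) ▸ bijective_ev D hV hD (Sum.elim c d) (Sum.inl k))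
  refine ⟨(injective_iff_map_eq_zero _).2 fun z hz =>
    eq_zero_of_one_tmul (fun j => CB (c j)) hsurj z fun k => (hl k).1 ?_, fun x => ?_⟩
  · rw [map_zero, LinearMap.lTensor_tmul, hz, TensorProduct.tmul_zero]
  · show x ∈ LinearMap.range (sub D hV hD c d)
    rw [← Submodule.Quotient.mk_eq_zero (LinearMap.range (sub D hV hD c d))]
    refine eq_zero_of_one_tmul (fun j => CB (c j)) hsurj _ fun k => ?_
    obtain ⟨w, hw⟩ := (hl k).2 ((1 : CB (c k)) ⊗ₜ x)
    show (1 : CB (c k)) ⊗ₜ (LinearMap.range (sub D hV hD c d)).mkQ x = 0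
    rw [← LinearMap.lTensor_tmul, ← hw, ← LinearMap.comp_apply, ← LinearMap.lTensor_comp,
      LinearMap.range_mkQ_comp, LinearMap.lTensor_zero, LinearMap.zero_apply]

variable (hcov : IsCov c)

omit [∀ i, Flat (f i)] [Finite J] in
lemma grp_ρ (s : grp D V) (k j : Chart f V) :
    ρ D hV hD k j ((Dm D k.i).presheaf.map (homOfLE k.hle).op (s.1 k.i)) =
      (1 : CB k) ⊗ₜ (show CN D j from (Dm D j.i).presheaf.map (homOfLE j.hle).op (s.1 j.i)) := by
  rw [ρ_eq_iff]
  refine (Hs_res D _ _ _ (toX_pre _) (s.1 k.i)).trans (Eq.trans ?_ (pullSec_res _ _ _ (toX_pre _) (s.1 j.i)).symm)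
  exact s.2 _ _ _ _ _ _ _ _ _ _ _

/-- Evaluation of a section on the charts. -/
noncomputable def restr : grp D V →+ Malg D hV hD c where
  toFun s := ⟨fun j => (Dm D (c j).i).presheaf.map (homOfLE (c j).hle).op (s.1 (c j).i),
    (mem_Malg D hV hD c).2 fun k j => grp_ρ D hV hD s (c k) (c j)⟩
  map_zero' := Subtype.ext (funext fun j => map_zero ((Dm D (c j).i).presheaf.map (homOfLE (c j).hle).op).hom)
  map_add' s t := Subtype.ext (funext fun j =>
    map_add ((Dm D (c j).i).presheaf.map (homOfLE (c j).hle).op).hom (s.1 (c j).i) (t.1 (c j).i))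

omit [∀ i, Flat (f i)] [Finite J] in
lemma restr_val (s : grp D V) (j : J) :
    (restr D hV hD c s).1 j = (Dm D (c j).i).presheaf.map (homOfLE (c j).hle).op (s.1 (c j).i) := rfl

include hcov in
theorem injective_restr : Function.Injective (restr D hV hD c) := by
  refine (injective_iff_map_eq_zero _).2 fun s hs => grp_ext D fun i => eq_zero_of_locally _ _ fun p hp => ?_
  obtain ⟨W, hW, hpW, hWV⟩ := exists_isAffineOpen_mem_and_subset (U := (f i) ⁻¹ᵁ V) (x := p) hp
  let d : Unit → Chart f V := fun _ => ⟨i, W, hW, hWV⟩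
  have h0 : restr D hV hD (Sum.elim c d) s = 0 := (bijective_sub D hV hD c hcov d).1 (by
    rw [map_zero]
    exact hs)
  exact ⟨W, homOfLE hWV, hpW, congrArg (fun y : Malg D hV hD (Sum.elim c d) => y.1 (Sum.inr ())) h0⟩

include hcov in
theorem surjective_restr : Function.Surjective (restr D hV hD c) := by
  intro z
  choose y hy using fun d : Chart f V => (bijective_sub D hV hD c hcov (fun _ : Unit => d)).2 z
  let val : ∀ d, CN D d := fun d => (y d).1 (Sum.inr ())
  have huniq : ∀ (d : Chart f V) (w : ∀ o : J ⊕ Unit, CN D (Sum.elim c (fun _ => d) o)),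
      w ∈ Malg D hV hD (Sum.elim c fun _ => d) → (∀ j, w (Sum.inl j) = z.1 j) → w (Sum.inr ()) = val d :=
    fun d w hw hwz => by
      have h : (⟨w, hw⟩ : Malg D hV hD (Sum.elim c fun _ => d)) = y d :=
        (bijective_sub D hV hD c hcov (fun _ : Unit => d)).1
          ((show sub D hV hD c (fun _ => d) ⟨w, hw⟩ = z from Subtype.ext (funext hwz)).trans (hy d).symm)
      exact congrArg (fun t : Malg D hV hD (Sum.elim c fun _ => d) => t.1 (Sum.inr ())) h
  have hz := (mem_Malg D hV hD c).1 z.2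
  have hval : ∀ j, val (c j) = z.1 j := fun j => by
    let w : ∀ o : J ⊕ Unit, CN D (Sum.elim c (fun _ => c j) o) := fun o => match o with
      | Sum.inl k => z.1 k
      | Sum.inr _ => z.1 j
    refine (huniq (c j) w ((mem_Malg D hV hD (Sum.elim c fun _ : Unit => c j)).2 fun k l => ?_) fun _ => rfl).symm
    cases k <;> cases l
    · exact hz _ _
    · exact hz _ _
    · exact hz _ _
    · exact hz _ _
  have hρ : ∀ d d', ρ D hV hD d d' (val d) = (1 : CB d) ⊗ₜ val d' := fun d d' => by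
    let c₂ : Bool → Chart f V := fun b => match b with
      | false => d
      | true => d'
    obtain ⟨w, hw⟩ := (bijective_sub D hV hD c hcov c₂).2 z
    have hw' : ∀ k, w.1 (Sum.inl k) = z.1 k := fun k => congrArg (fun t : Malg D hV hD c => t.1 k) hw
    have hwρ := (mem_Malg D hV hD (Sum.elim c c₂)).1 w.2
    let w₀ : ∀ o : J ⊕ Unit, CN D (Sum.elim c (fun _ => d) o) := fun o => match o with
      | Sum.inl k => w.1 (Sum.inl k)
      | Sum.inr _ => w.1 (Sum.inr false)
    let w₁ : ∀ o : J ⊕ Unit, CN D (Sum.elim c (fun _ => d') o) := fun o => match o with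
      | Sum.inl k => w.1 (Sum.inl k)
      | Sum.inr _ => w.1 (Sum.inr true)
    have h1 : w.1 (Sum.inr false) = val d := huniq d w₀
      ((mem_Malg D hV hD (Sum.elim c fun _ : Unit => d)).2 fun k l => by
        cases k <;> cases l
        · exact hwρ (Sum.inl _) (Sum.inl _)
        · exact hwρ (Sum.inl _) (Sum.inr false)
        · exact hwρ (Sum.inr false) (Sum.inl _)
        · exact hwρ (Sum.inr false) (Sum.inr false)) hw'
    have h2 : w.1 (Sum.inr true) = val d' := huniq d' w₁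
      ((mem_Malg D hV hD (Sum.elim c fun _ : Unit => d')).2 fun k l => by
        cases k <;> cases l
        · exact hwρ (Sum.inl _) (Sum.inl _)
        · exact hwρ (Sum.inl _) (Sum.inr true)
        · exact hwρ (Sum.inr true) (Sum.inl _)
        · exact hwρ (Sum.inr true) (Sum.inr true)) hw'
    have h3 := hwρ (Sum.inr false) (Sum.inr true)
    rw [h1, h2] at h3
    exact h3
  have hagree : ∀ (i : ι) (W W' : (X i).Opens) (hW : IsAffineOpen W) (hW' : IsAffineOpen W')
      (hle : W ≤ (f i) ⁻¹ᵁ V) (hle' : W' ≤ (f i) ⁻¹ᵁ V),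
      (Dm D i).presheaf.map (Opens.infLELeft W W').op (val ⟨i, W, hW, hle⟩) =
        (Dm D i).presheaf.map (Opens.infLERight W W').op (val ⟨i, W', hW', hle'⟩) := by
    intro i W W' hW hW' hle hle'
    refine (bijective_pullSec_of_isOpenImmersion (W ⊓ W').ι (Dm D i) (O := W ⊓ W')
      (by rw [Scheme.Opens.opensRange_ι]) (W ⊓ W').ι_preimage_self.ge).1 ?_
    rw [pullSec_res, pullSec_res]
    exact (Hs_self D rfl _ _).symm.trans (Hs_eq_of_ρ D hV hD (hρ ⟨i, W, hW, hle⟩ ⟨i, W', hW', hle'⟩) rfl rfl _ _)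
  have hex : ∀ i, ∃ t : Γ(Dm D i, (f i) ⁻¹ᵁ V), ∀ (W : (X i).Opens) (hW : IsAffineOpen W) (hle : W ≤ (f i) ⁻¹ᵁ V),
      (Dm D i).presheaf.map (homOfLE hle).op t = val ⟨i, W, hW, hle⟩ := by
    intro i
    let K := {W : (X i).affineOpens // W.1 ≤ (f i) ⁻¹ᵁ V}
    let U : K → (X i).Opens := fun W => W.1.1
    have hcover : (f i) ⁻¹ᵁ V ≤ iSup U := fun p hp => by
      obtain ⟨W, hW, hpW, hWV⟩ := exists_isAffineOpen_mem_and_subset (U := (f i) ⁻¹ᵁ V) (x := p) hp
      exact Opens.mem_iSup.2 ⟨⟨⟨W, hW⟩, hWV⟩, hpW⟩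
    obtain ⟨t, ht, -⟩ := TopCat.Sheaf.existsUnique_gluing' ⟨(Dm D i).presheaf, (Dm D i).isSheaf⟩ U
      ((f i) ⁻¹ᵁ V) (fun W => homOfLE W.2) hcover (fun W => val ⟨i, W.1.1, W.1.2, W.2⟩)
      (fun W W' => hagree i _ _ W.1.2 W'.1.2 W.2 W'.2)
    exact ⟨t, fun W hW hle => ht ⟨⟨W, hW⟩, hle⟩⟩
  choose t ht using hex
  refine ⟨⟨t, fun Y i i' a b q ha hb U hUa hUb => ?_⟩, Subtype.ext (funext fun j => ?_)⟩
  · refine sub_eq_zero.1 (eq_zero_of_locally U _ fun p hp => ?_)
    obtain ⟨W, hW, hpW, hWV⟩ := exists_isAffineOpen_mem_and_subset (U := (f i) ⁻¹ᵁ V) (x := a.base p) (hUa hp)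
    obtain ⟨W', hW', hpW', hWV'⟩ := exists_isAffineOpen_mem_and_subset (U := (f i') ⁻¹ᵁ V) (x := b.base p) (hUb hp)
    refine ⟨U ⊓ (a ⁻¹ᵁ W ⊓ b ⁻¹ᵁ W'), Opens.infLELeft _ _, ⟨hp, hpW, hpW'⟩, ?_⟩
    rw [map_sub, sub_eq_zero, res_Hs, res_pullSec]
    have e1 : U ⊓ (a ⁻¹ᵁ W ⊓ b ⁻¹ᵁ W') ≤ a ⁻¹ᵁ W := inf_le_right.trans inf_le_left
    have e2 : U ⊓ (a ⁻¹ᵁ W ⊓ b ⁻¹ᵁ W') ≤ b ⁻¹ᵁ W' := inf_le_right.trans inf_le_right
    refine ((Hs_res D ha hb (homOfLE hWV) e1 (t i)).symm.trans ?_).trans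
      (pullSec_res b _ (homOfLE hWV') e2 (t i'))
    rw [ht i W hW hWV, ht i' W' hW' hWV']
    exact Hs_eq_of_ρ D hV hD (hρ ⟨i, W, hW, hWV⟩ ⟨i', W', hW', hWV'⟩) ha hb e1 e2
  · exact (ht (c j).i (c j).W (c j).hW (c j).hle).trans (hval j)

end Groth.Agent.FpqcMod
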